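import Groth.Agent.PerfRP.Roof
import Groth.Agent.AmpleFam.Resolution
import Groth.Prelude.Def_KSix

/-!
# Global resolutions of perfect objects by an ample family
-/

set_option autoImplicit false
set_option backward.isDefEq.respectTransparency.types false
set_option backward.isDefEq.respectTransparency false

universe u

open CategoryTheory CategoryTheory.Limits AlgebraicGeometry DerivedCategory Pretriangulated HomologicalComplex
open ZeroObject
open Groth.Agent.CohDerLib Groth.Agent.CohDerLib.QC Groth.Agent.KFlat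

attribute [local instance] HasDerivedCategory.standard preservesBinaryBiproducts_of_preservesBiproducts

noncomputable section

namespace Groth.Agent.PerfRP

open CochainComplex

variable {X : Scheme.{u}} {ι : Type u} {L : ι → X.Modules}

theorem inAddL_of_iso {M N : X.Modules} (e : M ≅ N) (h : KSix.InAddL L M) : KSix.InAddL L N := by
  obtain ⟨k, P, hP, ⟨e'⟩⟩ := h
  exact ⟨k, P, hP, ⟨e.symm ≪≫ e'⟩⟩

theorem inAddL_of_isZero {M : X.Modules} (h : IsZero M) : KSix.InAddL L M := by
  let P : Fin 0 → X.Modules := fun j => j.elim0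
  have hz : IsZero (⨁ P) := (IsZero.iff_id_eq_zero _).2 (biproduct.hom_ext _ _ fun j => j.elim0)
  exact ⟨0, P, fun j => j.elim0, ⟨h.iso hz⟩⟩

/-- The terms of a cone on a single module. -/
theorem cone_single_iso {P : CochainComplex X.Modules ℤ} {k : ℤ} {V : X.Modules} (s : (sc k).obj V ⟶ P)
    (i : ℤ) :
    (i ≠ k - 1 → Nonempty (P.X i ≅ (mappingCone s).X i)) ∧
      (i = k - 1 → IsZero (P.X i) → Nonempty (V ≅ (mappingCone s).X i)) := by
  let e := CohModel.coneXIso s i
  refine ⟨fun h => ?_, fun h hz => ?_⟩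
  · have hS : IsZero (((sc k).obj V).X (i + 1)) := isZero_single_obj_X _ k V _ (by omega)
    exact ⟨{ hom := biprod.inr ≫ e.inv
             inv := e.hom ≫ biprod.snd
             hom_inv_id := by simp
             inv_hom_id := by
               rw [← cancel_epi e.inv, ← cancel_mono e.hom]
               simp only [Category.assoc, Iso.inv_hom_id_assoc, Iso.inv_hom_id, Category.comp_id]
               apply biprod.hom_ext'
               · exact hS.eq_of_src _ _
               · simp }⟩
  · subst h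
    have h1 : ((sc k).obj V).X (k - 1 + 1) ≅ V := eqToIso (by rw [sub_add_cancel]) ≪≫ singleObjXSelf (ComplexShape.up ℤ) k V
    exact ⟨{ hom := h1.inv ≫ biprod.inl ≫ e.inv
             inv := e.hom ≫ biprod.fst ≫ h1.hom
             hom_inv_id := by simp
             inv_hom_id := by
               rw [← cancel_epi e.inv, ← cancel_mono e.hom]
               simp only [Category.assoc, Iso.inv_hom_id_assoc, Iso.inv_hom_id, Category.comp_id, Iso.hom_inv_id_assoc]
               apply biprod.hom_ext'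
               · simp
               · exact hz.eq_of_src _ _ }⟩

theorem hasResolutionProperty_of_ample (hL : KSix.IsAmpleFamily L) : PerfAux.HasResolutionProperty X :=
  fun M hM hM' => by
    obtain ⟨E, π, hE, hπ⟩ := AmpleFam.Basic.exists_epi hL hM hM'
    exact ⟨E, π, AmpleFam.Resolution.isFinLocFree_of_inAddL hL.2.2.1 hE, hπ⟩

theorem isPerfect_of_amp {K : DCoh.D X} {m n : ℤ} (h : KSix.HasPerfectAmplitudeIn m n K) :
    DCoh.IsPerfect K := fun x => by
  obtain ⟨V, hx, hV⟩ := h x
  exact ⟨V, hx, fun F hF => by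
    obtain ⟨E, hE, hEf, e⟩ := hV F hF
    exact ⟨E, ⟨⟨m, n, hE⟩, hEf⟩, e⟩⟩

/-- Resolutions in a given amplitude by sums of negative powers of an ample family. -/
theorem exists_ample_resolution (hL : KSix.IsAmpleFamily L) (K : DCoh.D X) (m b : ℤ)
    (hamp : KSix.HasPerfectAmplitudeIn m b K) :
    ∃ F : CochainComplex X.Modules ℤ, DCoh.VanishesOutside F m b ∧ (∀ i : ℤ, m < i → KSix.InAddL L (F.X i)) ∧
      FlatMod.IsFinLocFree (F.X m) ∧ Nonempty (DCoh.toD X F ≅ K) := by
  have := hL.1
  have := hL.2.1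
  have hX := hasResolutionProperty_of_ample hL
  by_cases hmb : b < m
  · have amp : ∀ c : ℤ, KSix.HasPerfectAmplitudeIn c c K := fun c x => by
      obtain ⟨V, hx, hV⟩ := hamp x
      exact ⟨V, hx, fun F hF => by
        obtain ⟨E, hE, hEf, e⟩ := hV F hF
        exact ⟨E, fun i _ => hE i (by omega), hEf, e⟩⟩
    have hH : ∀ i, IsZero (DCoh.HD K i) := fun i => by
      obtain ⟨G, hG, -, ⟨e⟩⟩ := ((PCohD.PerfAmp.perfAmp_iff K le_rfl).1 (amp (i + 1))).2
      exact IsZero.of_iso ((PCohD.isZero_homology_Q G i).mpr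
          (ShortComplex.isZero_homology_of_isZero_X₂ _ (hG i (by omega))))
        ((DerivedCategory.homologyFunctor X.Modules i).mapIso e.symm)
    have hK : IsZero K := by
      have : IsIso (0 : K ⟶ K) := (DerivedCategory.isIso_iff X.Modules _).2 fun i =>
        ⟨0, (hH i).eq_of_src _ _, (hH i).eq_of_src _ _⟩
      rw [IsZero.iff_id_eq_zero, ← cancel_mono (0 : K ⟶ K)]
      simp
    exact ⟨0, fun i _ => (HomologicalComplex.eval X.Modules (ComplexShape.up ℤ) i).map_isZero (isZero_zero _),
      fun i _ => inAddL_of_isZero ((HomologicalComplex.eval X.Modules (ComplexShape.up ℤ) i).map_isZero (isZero_zero _)),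
      PCohD.isStrictlyPerfect_zero.2 m, ⟨(Q.map_isZero (isZero_zero _)).iso hK⟩⟩
  have hmb : m ≤ b := by omega
  have hKp := isPerfect_of_amp hamp
  obtain ⟨-, hfl⟩ := (PCohD.PerfAmp.perfAmp_iff K hmb).1 hamp
  have hpc : ∀ k, DCoh.IsPseudoCoherentD k K := fun k => PCohD.pc_of_perfect hKp k
  have hKq : DCoh.IsQCohD K := FlatProper.isQCohD_of_pc hpc
  have hHz : ∀ i, (i < m ∨ b < i) → IsZero (DCoh.HD K i) := fun i hi => by
    obtain ⟨G, hG, -, ⟨e⟩⟩ := id hfl
    exact IsZero.of_iso ((PCohD.isZero_homology_Q G i).mpr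
        (ShortComplex.isZero_homology_of_isZero_X₂ _ (hG i (by omega))))
      ((DerivedCategory.homologyFunctor X.Modules i).mapIso e.symm)
  have : K.IsGE m := (DerivedCategory.isGE_iff K m).2 fun i hi => hHz i (Or.inl hi)
  have key : ∀ n : ℕ, m + 1 + n ≤ b + 1 → ∀ (P : CochainComplex X.Modules ℤ) (g : Q.obj P ⟶ K),
      DCoh.VanishesOutside P (m + 1 + n) b → (∀ i, KSix.InAddL L (P.X i)) → Good g (m + 1 + n) →
      ∃ F : CochainComplex X.Modules ℤ, DCoh.VanishesOutside F m b ∧ (∀ i : ℤ, m < i → KSix.InAddL L (F.X i)) ∧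
        FlatMod.IsFinLocFree (F.X m) ∧ Nonempty (DCoh.toD X F ≅ K) := by
    intro n
    induction n with
    | zero =>
      intro hn P g hP hPA hg
      simp only [Nat.cast_zero, add_zero] at hn hP hg
      have hPf : ∀ i, FlatMod.IsFinLocFree (P.X i) := fun i =>
        AmpleFam.Resolution.isFinLocFree_of_inAddL hL.2.2.1 (hPA i)
      obtain ⟨C, δ, h, hT⟩ := distinguished_cocone_triangle₁ g
      have hC : C.IsLE (m + 1) := fibre_of_good (Triangle.mk δ g h) hT (m + 1) hg
      let T := (Triangle.mk δ g h).rotate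
      have hT' : T ∈ distinguishedTriangles := rot_of_distTriang _ hT
      have hfl₁ : DCoh.HasFlatAmplitudeIn m b T.obj₃ :=
        PerfModel.flatAmp₃ T hT' (by omega)
          ⟨P, fun i hi => hP i (by omega), fun i => PCohD.PerfTor.isFlat_of_isFinLocFree (hPf i), ⟨Iso.refl _⟩⟩ hfl
      have hpc₃ : ∀ k, DCoh.IsPseudoCoherentD k T.obj₃ := fun k =>
        PCohD.pc₃ (m := k) T hT' (PCohD.pc_of_isAp ⟨P, (Iso.refl (Q.obj P)).hom, ⟨⟨_, _, hP⟩, hPf⟩,
          @KFlat.TildePC.appr_of_isIso _ _ _ _ _ _ _ _ (Iso.isIso_hom (Iso.refl _))⟩) (hpc k)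
      have hle₃ : T.obj₃.IsLE m := TStructure.t.isLE_shift C (m + 1) 1 m (by omega)
      obtain ⟨G', hG', hGf', ⟨e'⟩⟩ :=
        PerfModel.flatAmp_shrink (b := b) le_rfl (by omega) hfl₁ (hpc₃ _) (fun i hi => isZero_of_isLE T.obj₃ m i hi)
      have hge₃ : T.obj₃.IsGE m := (DerivedCategory.isGE_iff _ _).2 fun i hi =>
        IsZero.of_iso ((PCohD.isZero_homology_Q G' i).mpr
            (ShortComplex.isZero_homology_of_isZero_X₂ _ (hG' i (Or.inl hi))))
          ((DerivedCategory.homologyFunctor X.Modules i).mapIso e'.symm)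
      obtain ⟨A, ⟨eA⟩⟩ := exists_iso_singleFunctor_obj_of_isGE_of_isLE T.obj₃ m
      obtain ⟨J, ⟨eJ⟩⟩ : ∃ J, Nonempty (Q.obj J ≅ T.obj₃) := ⟨_, ⟨Q.objObjPreimageIso _⟩⟩
      have hA : FlatMod.IsFinLocFree A :=
        LocFree.isFinLocFree_of_iso
          (((homologyFunctorFactors X.Modules m).app J).symm ≪≫
            (DerivedCategory.homologyFunctor X.Modules m).mapIso (eJ ≪≫ eA) ≪≫
            (singleFunctorCompHomologyFunctorIso X.Modules m).app A)
          (PerfModel.isFinLocFree_homology ⟨G', hG', hGf', ⟨e' ≪≫ eJ.symm⟩⟩ (PCohD.pc_of_iso eJ.symm (hpc₃ _)))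
      let eC : sq (m + 1) A ≅ C :=
        (CategoryTheory.shiftFunctor (DCoh.D X) (1 : ℤ)).preimageIso
          (((DerivedCategory.singleFunctors X.Modules).shiftIso 1 m (m + 1) (by omega)).app A ≪≫ eA.symm)
      let u : Q.obj ((sc (m + 1)).obj A) ⟶ C := (QCohAcy.singleQIso (m + 1) A).inv ≫ eC.hom
      obtain ⟨s, hs⟩ := exists_chain_map P (m + 1) (fun i hi => hP i (Or.inl hi)) A (u ≫ δ)
      obtain ⟨g₁, -, -, hiso⟩ := attach hT (m + 1) s u hs
        (TStructure.t.isLE_of_iso (QCohAcy.singleQIso (m + 1) A) (m + 1)) inferInstance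
      have : IsIso g₁ := hiso inferInstance
      refine ⟨mappingCone s, fun i hi => (mappingCone.isZero_X_iff s i).mpr
        ⟨isZero_single_obj_X _ (m + 1) A _ (by omega), hP i (by omega)⟩, fun i hi => ?_, ?_, ⟨asIso g₁⟩⟩
      · exact inAddL_of_iso ((cone_single_iso s i).1 (by omega)).some (hPA i)
      · exact LocFree.isFinLocFree_of_iso ((cone_single_iso s m).2 (by omega) (hP m (Or.inl (by omega)))).some hA
    | succ n ih =>
      intro hn P g hP hPA hg
      obtain ⟨k, hk⟩ : ∃ k : ℤ, k = m + 1 + ((n + 1 : ℕ) : ℤ) := ⟨_, rfl⟩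
      rw [← hk] at hn hP hg
      have hPf : ∀ i, FlatMod.IsFinLocFree (P.X i) := fun i =>
        AmpleFam.Resolution.isFinLocFree_of_inAddL hL.2.2.1 (hPA i)
      obtain ⟨C, δ, h, hT⟩ := distinguished_cocone_triangle₁ g
      let T := Triangle.mk δ g h
      have hC : C.IsLE k := fibre_of_good T hT k hg
      have hPq : DCoh.IsQCohD (Q.obj P : DCoh.D X) :=
        QCohModel.isQCohD_Q_of_terms P fun i => PerfTri.Betti.isQuasicoherent_of_isFinLocFree (hPf i)
      have hCq : DCoh.IsQCohD C := PCohD.isQCohD_obj₃ T.invRotate.invRotate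
        (inv_rot_of_distTriang _ (inv_rot_of_distTriang _ hT)) (isQCohD_shift hPq _) (isQCohD_shift hKq _)
      have hCpc : DCoh.IsPseudoCoherentD k C := by
        rw [show k = k - 1 + 1 by omega]
        exact PCohD.pc₁ (m := k - 1) T hT
          (PCohD.pc_of_isAp ⟨P, (Iso.refl (Q.obj P)).hom, ⟨⟨_, _, hP⟩, hPf⟩,
            @KFlat.TildePC.appr_of_isIso _ _ _ _ _ _ _ _ (Iso.isIso_hom (Iso.refl _))⟩) (hpc _)
      have hCge : C.IsGE m := (DerivedCategory.isGE_iff C m).2 fun i hi =>
        (HomologySequence.exact₁ T hT (i - 1) i (by omega)).isZero_X₂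
          ((isZero_of_isGE K m (i - 1) (by omega)).eq_of_src _ _)
          (((PCohD.isZero_homology_Q P i).mpr
            (ShortComplex.isZero_homology_of_isZero_X₂ _ (hP i (Or.inl (by omega))))).eq_of_tgt _ _)
      obtain ⟨V, ψ, hV, hψ⟩ := exists_epi_top hX C hCq m k
        (PCohD.FTFP.isFT_homology hCpc fun i hi => isZero_of_isLE C k i hi)
      have hqV : Coh.IsQCoh V := PerfTri.Betti.isQuasicoherent_of_isFinLocFree hV
      obtain ⟨W, π, hW, hπ⟩ := AmpleFam.Basic.exists_epi hL hqV (@Desc44.SmoothFactor.isFT_of_isFinLocFree _ _ hV hqV)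
      let u : Q.obj ((sc k).obj W) ⟶ C := Q.map ((sc k).map π) ≫ (QCohAcy.singleQIso k V).inv ≫ ψ
      have hu : Epi ((DerivedCategory.homologyFunctor X.Modules k).map u) := by
        rw [Functor.map_comp, Functor.map_comp]
        have : Epi ((DerivedCategory.homologyFunctor X.Modules k).map (Q.map ((sc k).map π))) :=
          (MorphismProperty.epimorphisms X.Modules).arrow_mk_iso_iff
            (((Functor.mapArrowFunctor _ _).mapIso (Functor.isoWhiskerLeft (sc k) (homologyFunctorFactors X.Modules k) ≪≫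
                homologyFunctorSingleIso X.Modules (ComplexShape.up ℤ) k)).app (Arrow.mk π)) |>.2 hπ
        exact epi_comp _ _
      obtain ⟨s, hs⟩ := exists_chain_map P k (fun i hi => hP i (Or.inl hi)) W (u ≫ δ)
      obtain ⟨g₁, -, hgood, -⟩ := attach hT k s u hs (TStructure.t.isLE_of_iso (QCohAcy.singleQIso k W) k) hu
      refine ih (by omega) (mappingCone s) g₁
        (fun i hi => (mappingCone.isZero_X_iff s i).mpr
          ⟨isZero_single_obj_X _ k W _ (by omega), hP i (by omega)⟩) (fun i => ?_)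
        (by rw [show m + 1 + (n : ℤ) = k - 1 by omega]; exact hgood)
      by_cases hi : i = k - 1
      · exact inAddL_of_iso ((cone_single_iso s i).2 hi (hP i (Or.inl (by omega)))).some hW
      · exact inAddL_of_iso ((cone_single_iso s i).1 hi).some (hPA i)
  obtain ⟨n, hn⟩ : ∃ n : ℕ, m + 1 + n = b + 1 := ⟨(b - m).toNat, by omega⟩
  refine key n hn.le 0 0
    (fun i _ => (HomologicalComplex.eval X.Modules (ComplexShape.up ℤ) i).map_isZero (isZero_zero _))
    (fun i => inAddL_of_isZero ((HomologicalComplex.eval X.Modules (ComplexShape.up ℤ) i).map_isZero (isZero_zero _))) ?_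
  rw [hn]
  exact ⟨fun i hi => isIso_of_source_target_iso_zero _
      ((DerivedCategory.homologyFunctor X.Modules i).map_isZero (Q.map_isZero (isZero_zero _))).isoZero
      (hHz i (Or.inr (by omega))).isoZero,
    (hHz (b + 1) (Or.inr (by omega))).epi _⟩

end Groth.Agent.PerfRP
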