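import Groth.Agent.PerfRP.Ample
import Mathlib.CategoryTheory.Functor.OfSequence
import Mathlib.CategoryTheory.Limits.Constructions.EventuallyConstant

/-!
# Bounded above global resolutions of pseudo-coherent objects
-/

set_option autoImplicit false
set_option backward.isDefEq.respectTransparency.types false
set_option backward.isDefEq.respectTransparency false

universe u

open CategoryTheory CategoryTheory.Limits AlgebraicGeometry DerivedCategory Pretriangulated HomologicalComplex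
open ZeroObject
open Groth.Agent.CohDerLib Groth.Agent.CohDerLib.QC Groth.Agent.KFlat

attribute [local instance] HasDerivedCategory.standard preservesBinaryBiproducts_of_preservesBiproducts

noncomputable section

namespace Groth.Agent.PerfRP

open CochainComplex CochainComplex.HomComplex

variable {X : Scheme.{u}} {ι : Type u} {L : ι → X.Modules}

/-- A partial resolution down to degree `k`. -/
structure Partial (L : ι → X.Modules) (I : CochainComplex X.Modules ℤ) (b k : ℤ) where
  /-- The complex. -/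
  P : CochainComplex X.Modules ℤ
  /-- The comparison map. -/
  φ : P ⟶ I
  le : k ≤ b + 1
  van : DCoh.VanishesOutside P k b
  mem : ∀ i, KSix.InAddL L (P.X i)
  good : Good (Q.map φ) k

theorem exists_step (hL : KSix.IsAmpleFamily L) (I : CochainComplex X.Modules ℤ) [I.IsKInjective]
    (hpc : ∀ m, DCoh.IsPseudoCoherentD m (Q.obj I : DCoh.D X)) (a : ℤ) [(Q.obj I).IsGE a] (b k : ℤ)
    (D : Partial L I b k) :
    ∃ (D' : Partial L I b (k - 1)) (j : D.P ⟶ D'.P), j ≫ D'.φ = D.φ ∧ ∀ i, k ≤ i → IsIso (j.f i) := by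
  have := hL.1
  have := hL.2.1
  have hX := hasResolutionProperty_of_ample hL
  obtain ⟨P, φ, hkb, hP, hPA, hg⟩ := D
  have hPf : ∀ i, FlatMod.IsFinLocFree (P.X i) := fun i =>
    AmpleFam.Resolution.isFinLocFree_of_inAddL hL.2.2.1 (hPA i)
  obtain ⟨C, δ, h, hT⟩ := distinguished_cocone_triangle₁ (Q.map φ)
  let T := Triangle.mk δ (Q.map φ) h
  have hC : C.IsLE k := fibre_of_good T hT k hg
  have hPq : DCoh.IsQCohD (Q.obj P : DCoh.D X) :=
    QCohModel.isQCohD_Q_of_terms P fun i => PerfTri.Betti.isQuasicoherent_of_isFinLocFree (hPf i)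
  have hKq : DCoh.IsQCohD (Q.obj I : DCoh.D X) := FlatProper.isQCohD_of_pc hpc
  have hCq : DCoh.IsQCohD C := PCohD.isQCohD_obj₃ T.invRotate.invRotate
    (inv_rot_of_distTriang _ (inv_rot_of_distTriang _ hT)) (isQCohD_shift hPq _) (isQCohD_shift hKq _)
  have hCpc : DCoh.IsPseudoCoherentD k C := by
    rw [show k = k - 1 + 1 by omega]
    exact PCohD.pc₁ (m := k - 1) T hT
      (PCohD.pc_of_isAp ⟨P, (Iso.refl (Q.obj P)).hom, ⟨⟨_, _, hP⟩, hPf⟩,
        @KFlat.TildePC.appr_of_isIso _ _ _ _ _ _ _ _ (Iso.isIso_hom (Iso.refl _))⟩) (hpc _)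
  have hCge : C.IsGE (min a k) := (DerivedCategory.isGE_iff C _).2 fun i hi =>
    (HomologySequence.exact₁ T hT (i - 1) i (by omega)).isZero_X₂
      ((isZero_of_isGE (Q.obj I) a (i - 1) (by omega)).eq_of_src _ _)
      (((PCohD.isZero_homology_Q P i).mpr
        (ShortComplex.isZero_homology_of_isZero_X₂ _ (hP i (Or.inl (by omega))))).eq_of_tgt _ _)
  obtain ⟨V, ψ, hV, hψ⟩ := exists_epi_top hX C hCq (min a k) k
    (PCohD.FTFP.isFT_homology hCpc fun i hi => isZero_of_isLE C k i hi)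
  have hqV : Coh.IsQCoh V := PerfTri.Betti.isQuasicoherent_of_isFinLocFree hV
  obtain ⟨W, π, hW, hπ⟩ := AmpleFam.Basic.exists_epi hL hqV (@Desc44.SmoothFactor.isFT_of_isFinLocFree _ _ hV hqV)
  let u : Q.obj ((sc k).obj W) ⟶ C := Q.map ((sc k).map π) ≫ (QCohAcy.singleQIso k V).inv ≫ ψ
  have hu : Epi ((DerivedCategory.homologyFunctor X.Modules k).map u) := by
    rw [Functor.map_comp, Functor.map_comp]
    have : Epi ((DerivedCategory.homologyFunctor X.Modules k).map (Q.map ((sc k).map π))) :=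
      (MorphismProperty.epimorphisms X.Modules).arrow_mk_iso_iff
        (((Functor.mapArrowFunctor _ _).mapIso (Functor.isoWhiskerLeft (sc k) (homologyFunctorFactors X.Modules k) ≪≫
            homologyFunctorSingleIso X.Modules (ComplexShape.up ℤ) k)).app (Arrow.mk π)) |>.2 hπ
    exact epi_comp _ _
  obtain ⟨s, hs⟩ := exists_chain_map P k (fun i hi => hP i (Or.inl hi)) W (u ≫ δ)
  obtain ⟨g₁, hg₁, hgood, -⟩ := attach hT k s u hs (TStructure.t.isLE_of_iso (QCohAcy.singleQIso k W) k) hu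
  have hnull : Q.map (s ≫ φ) = Q.map (0 : (sc k).obj W ⟶ I) := by
    have hδ : δ ≫ Q.map φ = 0 := comp_distTriang_mor_zero₁₂ T hT
    rw [Functor.map_comp, hs, Category.assoc, hδ, comp_zero, Functor.map_zero]
  obtain ⟨H⟩ := Groth.Agent.DHA.KInj.homotopy_of_Q_map_eq hnull
  let φ₁ : mappingCone s ⟶ I := mappingCone.desc s (Cochain.ofHomotopy H) φ (by simp [δ_ofHomotopy])
  obtain ⟨y, hy⟩ := Triangle.yoneda_exact₃ (Q.mapTriangle.obj (mappingCone.triangle s))
    (mappingCone_triangle_distinguished s) (g₁ - Q.map φ₁) (by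
      show Q.map (mappingCone.inr s) ≫ _ = 0
      rw [Preadditive.comp_sub, hg₁, ← Functor.map_comp, mappingCone.inr_desc, sub_self])
  obtain ⟨z, hz⟩ := Groth.Agent.DHA.KInj.Q_map_surjective (((sc k).obj W)⟦(1 : ℤ)⟧) I
    ((Q.commShiftIso (1 : ℤ)).hom.app _ ≫ y)
  let m : mappingCone s ⟶ ((sc k).obj W)⟦(1 : ℤ)⟧ := (mappingCone.triangle s).mor₃
  let φ₂ := φ₁ + m ≫ z
  have hm : mappingCone.inr s ≫ m = 0 := by simp [m]
  have hφ₂ : Q.map φ₂ = g₁ := by
    rw [Functor.map_add, Functor.map_comp, hz, ← sub_eq_iff_eq_add'.1]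
    exact hy.trans (Category.assoc _ _ _)
  refine ⟨⟨mappingCone s, φ₂, by omega, fun i hi => (mappingCone.isZero_X_iff s i).mpr
      ⟨isZero_single_obj_X _ k W _ (by omega), hP i (by omega)⟩, fun i => ?_, hφ₂ ▸ hgood⟩,
    mappingCone.inr s, ?_, fun i hi => ?_⟩
  · by_cases hi : i = k - 1
    · exact inAddL_of_iso ((cone_single_iso s i).2 hi (hP i (Or.inl (by omega)))).some hW
    · exact inAddL_of_iso ((cone_single_iso s i).1 hi).some (hPA i)
  · simp [φ₂, φ₁, Preadditive.comp_add, reassoc_of% hm]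
  · have hz' : IsZero (((sc k).obj W).X (i + 1)) := isZero_single_obj_X _ k W _ (by omega)
    refine ⟨(mappingCone.snd s).v i i (add_zero i), by simp, ?_⟩
    rw [mappingCone.ext_to_iff s i (i + 1) rfl]
    exact ⟨hz'.eq_of_tgt _ _, by simp⟩

/-- The complexes of all stages, with their maps, give a bounded above resolution. -/
theorem exists_ample_resolution_pc (hL : KSix.IsAmpleFamily L) (K : DCoh.D X)
    (hK : ∀ m : ℤ, DCoh.IsPseudoCoherentD m K) (a b : ℤ) [K.IsGE a] [K.IsLE b] :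
    ∃ (F : CochainComplex X.Modules ℤ) (c : ℤ), (∀ i : ℤ, c < i → IsZero (F.X i)) ∧
      (∀ i : ℤ, KSix.InAddL L (F.X i)) ∧ Nonempty (DCoh.toD X F ≅ K) := by
  let J := (RPush.injRes X).obj (Q.objPreimage K)
  let eJ : Q.obj J ≅ K :=
    (asIso (Q.map ((RPush.injι X).app (Q.objPreimage K)))).symm ≪≫ Q.objObjPreimageIso K
  have hJge : (Q.obj J).IsGE a := TStructure.t.isGE_of_iso eJ.symm a
  have hJle : (Q.obj J).IsLE b := TStructure.t.isLE_of_iso eJ.symm b
  have hpc : ∀ m, DCoh.IsPseudoCoherentD m (Q.obj J : DCoh.D X) := fun m => PCohD.pc_of_iso eJ.symm (hK m)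
  let D₀ : Partial L J b (b + 1 - ((0 : ℕ) : ℤ)) :=
    { P := 0
      φ := 0
      le := by omega
      van := fun i _ => (HomologicalComplex.eval X.Modules (ComplexShape.up ℤ) i).map_isZero (isZero_zero _)
      mem := fun i => inAddL_of_isZero
        ((HomologicalComplex.eval X.Modules (ComplexShape.up ℤ) i).map_isZero (isZero_zero _))
      good := ⟨fun i hi => isIso_of_source_target_iso_zero _
          ((DerivedCategory.homologyFunctor X.Modules i).map_isZero (Q.map_isZero (isZero_zero _))).isoZero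
          (isZero_of_isLE (Q.obj J) b i (by omega)).isoZero,
        (isZero_of_isLE (Q.obj J) b (b + 1 - ((0 : ℕ) : ℤ)) (by omega)).epi _⟩ }
  have hstep : ∀ (n : ℕ) (D : Partial L J b (b + 1 - (n : ℤ))), ∃ (D' : Partial L J b (b + 1 - ((n + 1 : ℕ) : ℤ)))
      (j : D.P ⟶ D'.P), j ≫ D'.φ = D.φ ∧ ∀ i, b + 1 - (n : ℤ) ≤ i → IsIso (j.f i) := fun n D => by
    rw [show b + 1 - ((n + 1 : ℕ) : ℤ) = b + 1 - (n : ℤ) - 1 by push_cast; omega]
    exact exists_step hL J hpc a b _ D
  choose next j hj hjiso using hstep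
  let S : ∀ n : ℕ, Partial L J b (b + 1 - (n : ℤ)) := fun n =>
    Nat.rec (motive := fun n => Partial L J b (b + 1 - ((n : ℕ) : ℤ))) D₀ next n
  let F₀ : ℕ ⥤ CochainComplex X.Modules ℤ := Functor.ofSequence (fun n => j n (S n))
  let c : Cocone F₀ :=
    { pt := J
      ι := NatTrans.ofSequence (fun n => (S n).φ) (fun n => by
        simp only [F₀, Functor.ofSequence_map_homOfLE_succ, Functor.const_obj_map]
        exact (hj n (S n)).trans (Category.comp_id _).symm) }
  let F := colimit F₀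
  let ψ : F ⟶ J := colimit.desc F₀ c
  have hiso : ∀ (n : ℕ) (i : ℤ), b + 1 - (n : ℤ) ≤ i → IsIso ((colimit.ι F₀ n).f i) := fun n i hi => by
    let G := F₀ ⋙ HomologicalComplex.eval X.Modules (ComplexShape.up ℤ) i
    have hev : G.IsEventuallyConstantFrom n := fun m f => by
      obtain ⟨d, rfl⟩ : ∃ d, m = n + d := ⟨m - n, by have := leOfHom f; omega⟩
      induction d with
      | zero =>
        rw [Subsingleton.elim f (𝟙 n)]
        infer_instance
      | succ d ih =>
        have h1 := ih (homOfLE (Nat.le_add_right n d))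
        rw [Subsingleton.elim f (homOfLE (Nat.le_add_right n d) ≫ homOfLE (Nat.le_add_right (n + d) 1)),
          Functor.map_comp]
        have h2 : IsIso (G.map (homOfLE (Nat.le_add_right (n + d) 1))) := by
          show IsIso ((F₀.map (homOfLE (Nat.le_add_right (n + d) 1))).f i)
          simp only [F₀, Functor.ofSequence_map_homOfLE_succ]
          exact hjiso (n + d) (S (n + d)) i (by push_cast; omega)
        infer_instance
    exact hev.isIso_ι_of_isColimit
      (isColimitOfPreserves (HomologicalComplex.eval X.Modules (ComplexShape.up ℤ) i) (colimit.isColimit F₀))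
  have hq : QuasiIso ψ := by
    rw [quasiIso_iff]
    intro i
    obtain ⟨n, hn⟩ : ∃ n : ℕ, b + 1 - (n : ℤ) < i - 1 := ⟨(b + 1 - (i - 1)).toNat + 1, by omega⟩
    have h1 := hiso n (i - 1) hn.le
    have h2 := hiso n i (by omega)
    have h3 := hiso n (i + 1) (by omega)
    have hι : QuasiIsoAt (colimit.ι F₀ n) i := by
      rw [quasiIsoAt_iff' _ (i - 1) i (i + 1) (by simp) (by simp)]
      let μ := (shortComplexFunctor' X.Modules (ComplexShape.up ℤ) (i - 1) i (i + 1)).map (colimit.ι F₀ n)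
      have : IsIso μ.τ₁ := h1
      have : IsIso μ.τ₂ := h2
      have : IsIso μ.τ₃ := h3
      exact ShortComplex.quasiIso_of_epi_of_isIso_of_mono μ
    have hφ : QuasiIsoAt (S n).φ i := by
      rw [quasiIsoAt_iff_isIso_homologyMap]
      exact (NatIso.isIso_map_iff (homologyFunctorFactors X.Modules i) (S n).φ).1 ((S n).good.1 i (by omega))
    have hc : colimit.ι F₀ n ≫ ψ = (S n).φ := colimit.ι_desc c n
    have : QuasiIsoAt (colimit.ι F₀ n ≫ ψ) i := by rw [hc]; exact hφ
    exact quasiIsoAt_of_comp_left (colimit.ι F₀ n) ψ i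
  have hXiso : ∀ i : ℤ, ∃ n : ℕ, Nonempty ((S n).P.X i ≅ F.X i) := fun i => by
    obtain ⟨n, hn⟩ : ∃ n : ℕ, b + 1 - (n : ℤ) ≤ i := ⟨(b + 1 - i).toNat, by omega⟩
    have := hiso n i hn
    exact ⟨n, ⟨asIso ((colimit.ι F₀ n).f i)⟩⟩
  refine ⟨F, b, fun i hi => ?_, fun i => ?_, ⟨asIso (Q.map ψ) ≪≫ eJ⟩⟩
  · obtain ⟨n, ⟨e⟩⟩ := hXiso i
    exact IsZero.of_iso ((S n).van i (Or.inr hi)) e.symm
  · obtain ⟨n, ⟨e⟩⟩ := hXiso i
    exact inAddL_of_iso e ((S n).mem i)

end Groth.Agent.PerfRP
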