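import Groth.Agent.PerfRP.Strict

/-!
# Morphisms out of locally free modules into complexes of quasi-coherent modules, up to refinement
-/

set_option autoImplicit false
set_option backward.isDefEq.respectTransparency.types false
set_option backward.isDefEq.respectTransparency false

universe u

open CategoryTheory CategoryTheory.Limits AlgebraicGeometry DerivedCategory Pretriangulated HomologicalComplex
open Groth.Agent.CohDerLib Groth.Agent.CohDerLib.QC Groth.Agent.KFlat

attribute [local instance] HasDerivedCategory.standard preservesBinaryBiproducts_of_preservesBiproducts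

noncomputable section

namespace Groth.Agent.PerfRP

variable {X : Scheme.{u}}

/-- A module placed in one degree. -/
abbrev sc (n : ℤ) : X.Modules ⥤ CochainComplex X.Modules ℤ :=
  HomologicalComplex.single X.Modules (ComplexShape.up ℤ) n

theorem singleQ_natural (n : ℤ) {V W : X.Modules} (φ : V ⟶ W) :
    (singleFunctor X.Modules n).map φ ≫ (QCohAcy.singleQIso n W).hom =
      (QCohAcy.singleQIso n V).hom ≫ Q.map ((sc n).map φ) :=
  ((SingleFunctors.evaluation _ _ n).mapIso (singleFunctorsPostcompQIso X.Modules)).hom.naturality φ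

theorem isQCoh_cycles (K : CochainComplex X.Modules ℤ) (hK : ∀ i, Coh.IsQCoh (K.X i)) (j : ℤ) :
    Coh.IsQCoh (K.cycles j) :=
  @QCoh.isQuasicoherent_of_iso X _ _
    ((K.cyclesIsKernel j (j + 1) (by simp)).conePointUniqueUpToIso (kernelIsKernel (K.d j (j + 1)))).symm
    (@QCoh.isQuasicoherent_kernel X _ _ (K.d j (j + 1)) (hK j) (hK (j + 1)))

theorem isQCoh_pullback {A B C : X.Modules} (f : A ⟶ C) (g : B ⟶ C) (hA : Coh.IsQCoh A)
    (hB : Coh.IsQCoh B) (hC : Coh.IsQCoh C) : Coh.IsQCoh (pullback f g) := by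
  let D := biprod.fst ≫ f - biprod.snd ≫ g
  have hk : Coh.IsQCoh (kernel D) :=
    @QCoh.isQuasicoherent_kernel X _ _ D (CohDev.isQCoh_biprod hA hB) hC
  refine @QCoh.isQuasicoherent_of_iso X _ _ ?_ hk
  exact
    { hom := pullback.lift (kernel.ι D ≫ biprod.fst) (kernel.ι D ≫ biprod.snd) (by
        have := kernel.condition D
        simp only [D, Preadditive.comp_sub, sub_eq_zero] at this
        simpa using this)
      inv := kernel.lift D (biprod.lift (pullback.fst f g) (pullback.snd f g)) (by
        simp [D, Preadditive.comp_sub, pullback.condition])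
      hom_inv_id := by
        rw [← cancel_mono (kernel.ι D)]
        apply biprod.hom_ext <;> simp
      inv_hom_id := by apply pullback.hom_ext <;> simp }

variable [CompactSpace X] [QuasiSeparatedSpace X]

/-- A map from a finite locally free module into a quotient lifts after a refinement. -/
theorem exists_lift_refine (hX : PerfAux.HasResolutionProperty X) {A B : X.Modules} (p : A ⟶ B)
    (hA : Coh.IsQCoh A) (hB : Coh.IsQCoh B) {V : X.Modules} (hV : FlatMod.IsFinLocFree V) (z : V ⟶ B)
    (h : Epi (pullback.snd p z)) :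
    ∃ (V' : X.Modules) (π : V' ⟶ V) (t : V' ⟶ A), FlatMod.IsFinLocFree V' ∧ Epi π ∧ t ≫ p = π ≫ z := by
  have hqV : Coh.IsQCoh V := PerfTri.Betti.isQuasicoherent_of_isFinLocFree hV
  obtain ⟨V', m, hV', hm⟩ := PerfModel.exists_finLocFree_lift hX (pullback.snd p z)
    (isQCoh_pullback p z hA hqV hB) hqV (@Desc44.SmoothFactor.isFT_of_isFinLocFree _ _ hV hqV)
  exact ⟨V', m ≫ pullback.snd p z, m ≫ pullback.fst p z, hV', hm, by simp [pullback.condition]⟩

omit [CompactSpace X] [QuasiSeparatedSpace X] in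
theorem epi_snd_of_refinements {A B V : X.Modules} (p : A ⟶ B) (z : V ⟶ B)
    (h : ∀ ⦃T : X.Modules⦄ (x : T ⟶ V), ∃ (T' : X.Modules) (q : T' ⟶ T) (_ : Epi q) (y : T' ⟶ A),
      y ≫ p = q ≫ x ≫ z) : Epi (pullback.snd p z) := by
  obtain ⟨T', q, hq, y, hy⟩ := h (𝟙 V)
  have : Epi (pullback.lift y q (by simpa using hy) ≫ pullback.snd p z) := by
    simpa using hq
  exact epi_of_epi (pullback.lift y q _) _

/-- A derived null map of complexes out of a single module is null homotopic after a refinement. -/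
theorem refine_null (hX : PerfAux.HasResolutionProperty X) (K : CochainComplex X.Modules ℤ)
    (hK : ∀ i, Coh.IsQCoh (K.X i)) (j : ℤ) {V : X.Modules} (hV : FlatMod.IsFinLocFree V)
    (f : (sc j).obj V ⟶ K) (hf : Q.map f = 0) :
    ∃ (V' : X.Modules) (π : V' ⟶ V), FlatMod.IsFinLocFree V' ∧ Epi π ∧
      Nonempty (Homotopy ((sc j).map π ≫ f) 0) := by
  let e := singleObjXSelf (ComplexShape.up ℤ) j V
  have hd : (e.inv ≫ f.f j) ≫ K.d j (j + 1) = 0 := by
    rw [Category.assoc, f.comm, single_obj_d, zero_comp, comp_zero]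
  let z : V ⟶ K.cycles j := K.liftCycles (e.inv ≫ f.f j) (j + 1) (by simp) hd
  let φ : (sc j).obj V ⟶ K := mkHomFromSingle (z ≫ K.iCycles j) (fun k _ => by simp)
  have hφ : φ = f := from_single_hom_ext (by simp [φ, z, e])
  have h0 : homologyMap f j = 0 := by
    have h := (homologyFunctorFactors X.Modules j).hom.naturality f
    have h' : (homologyFunctor X.Modules j).map (Q.map f) = 0 := by rw [hf, Functor.map_zero]
    rw [← cancel_epi ((homologyFunctorFactors X.Modules j).hom.app ((sc j).obj V)), comp_zero]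
    exact h.symm.trans (by rw [show (Q ⋙ homologyFunctor X.Modules j).map f = 0 from h', zero_comp])
  have hz : z ≫ K.homologyπ j = 0 := by
    rw [← hφ, CohModel.homologyMap_fromSingle K j z φ rfl,
      Preadditive.IsIso.comp_left_eq_zero] at h0
    exact h0
  let S := ShortComplex.mk (K.toCycles (j - 1) j) (K.homologyπ j) (K.toCycles_comp_homologyπ _ _)
  have hS : S.Exact := ShortComplex.exact_of_g_is_cokernel _ (K.homologyIsCokernel (j - 1) j (by simp))
  obtain ⟨V', π, t, hV', hπ, ht⟩ := exists_lift_refine hX (K.toCycles (j - 1) j) (hK _)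
    (isQCoh_cycles K hK j) hV z (epi_snd_of_refinements _ _ fun T x => by
      obtain ⟨T', q, hq, y, hy⟩ := S.exact_iff_exact_up_to_refinements.1 hS (x ≫ z)
        (show (x ≫ z) ≫ K.homologyπ j = 0 by rw [Category.assoc, hz, comp_zero])
      exact ⟨T', q, hq, y, hy.symm⟩)
  refine ⟨V', π, hV', hπ, ⟨(Homotopy.ofEq ?_).trans (Homotopy.nullHomotopy'
    (fun a b (_ : (ComplexShape.up ℤ).Rel b a) => if h : a = j ∧ b = j - 1 then
      eqToHom (by rw [h.1]) ≫ (singleObjXSelf (ComplexShape.up ℤ) j V').hom ≫ t ≫ eqToHom (by rw [h.2])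
    else 0))⟩⟩
  refine from_single_hom_ext ?_
  have hrel : (ComplexShape.up ℤ).Rel (j - 1) j := by simp
  have hrel' : (ComplexShape.up ℤ).Rel j (j + 1) := by simp
  rw [Homotopy.nullHomotopicMap'_f hrel hrel', single_obj_d, zero_comp, zero_add, dif_pos ⟨rfl, rfl⟩]
  simp only [eqToHom_refl, Category.id_comp, Category.comp_id, Category.assoc]
  rw [← K.toCycles_i (j - 1) j, reassoc_of% ht, ← hφ]
  simp [φ, single_map_f_self]

/-- A derived map out of a single module is a map of complexes after a refinement. -/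
theorem refine_map (hX : PerfAux.HasResolutionProperty X) (K : CochainComplex X.Modules ℤ)
    (hK : ∀ i, Coh.IsQCoh (K.X i)) (a : ℤ) (ha : ∀ i, i < a → IsZero (K.X i)) (j : ℤ) {V : X.Modules}
    (hV : FlatMod.IsFinLocFree V) (y : Q.obj ((sc j).obj V) ⟶ Q.obj K) :
    ∃ (V' : X.Modules) (π : V' ⟶ V) (z : (sc j).obj V' ⟶ K), FlatMod.IsFinLocFree V' ∧ Epi π ∧
      Q.map z = Q.map ((sc j).map π) ≫ y := by
  let H := homologyFunctor X.Modules j
  let hf := homologyFunctorFactors X.Modules j
  let yb : V ⟶ K.homology j := (singleObjHomologySelfIso (ComplexShape.up ℤ) j V).inv ≫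
    hf.inv.app ((sc j).obj V) ≫ H.map y ≫ hf.hom.app K
  have hqH : Coh.IsQCoh (K.homology j) := @PerfTri.QCohHom.isQuasicoherent_homology X _ hK j
  obtain ⟨V₁, π₁, t, hV₁, hπ₁, ht⟩ := exists_lift_refine hX (K.homologyπ j) (isQCoh_cycles K hK j) hqH
    hV yb inferInstance
  let z₁ : (sc j).obj V₁ ⟶ K := mkHomFromSingle (t ≫ K.iCycles j) (fun k _ => by simp)
  let d : Q.obj ((sc j).obj V₁) ⟶ Q.obj K := Q.map ((sc j).map π₁) ≫ y - Q.map z₁
  have hd : H.map d = 0 := by
    have h1 := hf.hom.naturality z₁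
    have h2 := hf.hom.naturality ((sc j).map π₁)
    have h3 : homologyMap ((sc j).map π₁) j ≫ (singleObjHomologySelfIso (ComplexShape.up ℤ) j V).hom =
        (singleObjHomologySelfIso (ComplexShape.up ℤ) j V₁).hom ≫ π₁ :=
      singleObjHomologySelfIso_hom_naturality (ComplexShape.up ℤ) j π₁
    rw [← cancel_mono (hf.hom.app K), zero_comp]
    simp only [d, Functor.map_sub, Functor.map_comp, Preadditive.sub_comp, Category.assoc, sub_eq_zero]
    refine Eq.trans ?_ h1.symm
    change _ = _ ≫ homologyMap z₁ j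
    rw [CohModel.homologyMap_fromSingle K j t z₁ rfl, ht, ← reassoc_of% h3]
    simp only [yb, Iso.hom_inv_id_assoc]
    exact (reassoc_of% (show H.map (Q.map ((sc j).map π₁)) ≫ hf.hom.app _ =
      hf.hom.app _ ≫ homologyMap ((sc j).map π₁) j from h2)) (hf.inv.app _ ≫ H.map y ≫ hf.hom.app K)
      |>.symm.trans (by simp) |>.symm
  -- the part in degrees `≥ j` sees only the cohomology
  let N := (TStructure.t.truncGE j).obj (Q.obj K)
  let g : Q.obj K ⟶ N := (TStructure.t.truncGEπ j).app (Q.obj K)
  let d' : sq j V₁ ⟶ N := (QCohAcy.singleQIso j V₁).hom ≫ d ≫ g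
  have hd0 : d' = 0 := by
    let T := (TStructure.t.triangleLTGE (j + 1)).obj N
    have hT : T ∈ distinguishedTriangles := TStructure.t.triangleLTGE_distinguished (j + 1) N
    have h₁le : T.obj₁.IsLE j := by
      have : ((TStructure.t.truncLT (j + 1)).obj N).IsLE (j + 1 - 1) := inferInstance
      simpa [T] using this
    have hι := fun i (hi : i < j + 1) => isIso_homology_truncLTι N (j + 1) i hi
    have h₁ge : T.obj₁.IsGE j := (isGE_iff T.obj₁ j).2 fun i hi => by
      have := hι i (by omega)
      exact (isZero_of_isGE N j i hi).of_iso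
        (asIso ((homologyFunctor X.Modules i).map ((TStructure.t.truncLTι (j + 1)).app N)))
    have h₃ge : T.obj₃.IsGE (j + 1) := inferInstanceAs (((TStructure.t.truncGE (j + 1)).obj N).IsGE (j + 1))
    obtain ⟨B, ⟨e⟩⟩ := exists_iso_singleFunctor_obj_of_isGE_of_isLE T.obj₁ j
    obtain ⟨w, hw⟩ := Triangle.coyoneda_exact₂ T hT d'
      (TStructure.t.zero (d' ≫ T.mor₂) j (j + 1) (by omega))
    obtain ⟨φ, hφ⟩ := (singleFunctor X.Modules j).map_surjective (w ≫ e.hom)
    have : IsIso (H.map T.mor₁) := hι j (by omega)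
    have h0 : H.map ((singleFunctor X.Modules j).map φ) = 0 := by
      rw [hφ, Functor.map_comp, ← cancel_mono (inv (H.map e.hom) ≫ H.map T.mor₁)]
      simp only [zero_comp, Category.assoc, IsIso.hom_inv_id_assoc]
      rw [← Functor.map_comp, ← hw]
      simp only [d', Functor.map_comp, hd, zero_comp, comp_zero]
    have hφ0 : φ = 0 := by
      have hn := (singleFunctorCompHomologyFunctorIso X.Modules j).hom.naturality φ
      rw [← cancel_epi ((singleFunctorCompHomologyFunctorIso X.Modules j).hom.app V₁), comp_zero]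
      exact hn.symm.trans (by rw [show ((singleFunctor X.Modules j ⋙ homologyFunctor X.Modules j)).map φ = 0 from h0, zero_comp])
    rw [hφ0, Functor.map_zero] at hφ
    have hw0 : w = 0 := (cancel_mono e.hom).1 (hφ.symm.trans zero_comp.symm)
    rw [hw, hw0, zero_comp]
  obtain ⟨w, hw⟩ := Triangle.coyoneda_exact₂ _ (TStructure.t.triangleLTGE_distinguished j (Q.obj K))
    ((QCohAcy.singleQIso j V₁).hom ≫ d) ((Category.assoc _ _ _).trans hd0)
  let G := (TStructure.t.truncLT j).obj (Q.obj K)
  have hGle : G.IsLE (j - 1) := inferInstanceAs (((TStructure.t.truncLT j).obj (Q.obj K)).IsLE (j - 1))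
  have hGge : G.IsGE a := (isGE_iff G a).2 fun i hi => by
    by_cases h : i < j
    · have := isIso_homology_truncLTι (Q.obj K) j i h
      exact ((PCohD.isZero_homology_Q K i).mpr
          (ShortComplex.isZero_homology_of_isZero_X₂ _ (ha i hi))).of_iso
        (asIso ((homologyFunctor X.Modules i).map ((TStructure.t.truncLTι j).app (Q.obj K))))
    · exact isZero_of_isLE G (j - 1) i (by omega)
  obtain ⟨V', π₂, hV', hπ₂, h0⟩ := efface hX G (isQCohD_truncLT (QCohModel.isQCohD_Q_of_terms K hK) j)
    a (j - 1) hV₁ (k := j) (by omega) w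
  refine ⟨V', π₂ ≫ π₁, (sc j).map π₂ ≫ z₁, hV', epi_comp _ _, ?_⟩
  have h1 : Q.map ((sc j).map π₂) ≫ d = 0 := by
    rw [← cancel_epi (QCohAcy.singleQIso j V').hom, comp_zero, ← reassoc_of% (singleQ_natural j π₂)]
    rw [hw]
    exact (Category.assoc _ _ _).symm.trans ((congrArg (· ≫ _) h0).trans zero_comp)
  simp only [d, Preadditive.comp_sub, sub_eq_zero] at h1
  rw [Functor.map_comp, Functor.map_comp, Functor.map_comp, Category.assoc]
  exact h1.symm

/-- Cohomological comparison with a threshold. -/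
def Good {A B : DCoh.D X} (g : A ⟶ B) (k : ℤ) : Prop :=
  (∀ i, k < i → IsIso ((homologyFunctor X.Modules i).map g)) ∧ Epi ((homologyFunctor X.Modules k).map g)

end Groth.Agent.PerfRP
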