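import Groth.Agent.KFlat.ExtUniform
import Groth.Agent.PCohD.RpushAffine
import Groth.Agent.PerfModel.Lift
import Groth.Agent.CohDev.Coh
import Groth.Agent.CohAff.ResOps
import Groth.Agent.Desc44.SmoothFactor
import Groth.Agent.S1009

/-!
# Effacing higher extensions of quasi-coherent modules by finite locally free modules
-/

set_option autoImplicit false
set_option backward.isDefEq.respectTransparency.types false
set_option backward.isDefEq.respectTransparency false

universe u

open CategoryTheory CategoryTheory.Limits AlgebraicGeometry DerivedCategory Pretriangulated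
open Groth.Agent.KFlat Groth.Agent.KFlat.RPush Groth.Agent.CohDerLib Groth.Agent.CohDerLib.QC

attribute [local instance] HasDerivedCategory.standard preservesBinaryBiproducts_of_preservesBiproducts

noncomputable section

namespace Groth.Agent.PerfRP

variable {X : Scheme.{u}}

/-- A module placed in one degree of the derived category. -/
abbrev sq (n : ℤ) (M : X.Modules) : DCoh.D X := (singleFunctor X.Modules n).obj M

theorem isQCohD_single' {G : X.Modules} (hG : Coh.IsQCoh G) (k : ℤ) : DCoh.IsQCohD (sq k G) :=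
  fun i => by
  rcases lt_trichotomy i k with h' | h' | h'
  · exact qcoh_of_isZero (isZero_of_isGE _ k i h')
  · subst h'
    exact qcoh_iso ((singleFunctorCompHomologyFunctorIso X.Modules i).app G).symm hG
  · exact qcoh_of_isZero (isZero_of_isLE _ k i h')

/-- `Hom(V, -)` kills higher classes on affine opens. -/
theorem van_restrict {V : X.Modules} (hV : FlatMod.IsFinLocFree V) {W : X.Opens} (hW : IsAffineOpen W) :
    Van 0 (V.restrict W.ι) := by
  have : IsAffine (W : Scheme.{u}) := hW
  obtain ⟨n, ⟨r⟩⟩ := ExtUniform.exists_retract_free (PCohD.FreeLocus.isFinLocFree_restrict W.ι hV)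
  exact ExtUniform.van_retract r (van_freeMod n)

theorem hom_push_eq_zero {V : X.Modules} (hV : FlatMod.IsFinLocFree V) {W : X.Opens}
    (hW : IsAffineOpen W) [IsAffineHom W.ι] (M : X.Modules) (hM : Coh.IsQCoh M) {k b : ℤ}
    (hkb : b < k) (f : sq k V ⟶ sq b ((MVSheaf.R W).obj M)) : f = 0 := by
  let S : CochainComplex X.Modules ℤ := (HomologicalComplex.single X.Modules (ComplexShape.up ℤ) b).obj M
  let I := (injRes X).obj S
  let s : S ⟶ I := (injι X).app S
  let F := (DCoh.restrictCx W).obj S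
  let J := (DCoh.restrictCx W).obj I
  have := RPush.hasRpush W.ι
  have hJ : J.IsKInjective := ExtZero.isKInjective_restrict W I
  have hqS : ∀ m, (S.X m).IsQuasicoherent := fun m => by
    rcases eq_or_ne m b with rfl | h
    · exact @QCoh.isQuasicoherent_of_iso X _ _
        (HomologicalComplex.singleObjXSelf (ComplexShape.up ℤ) m M).symm hM
    · exact (CohDev.isCoh_of_isZero (HomologicalComplex.isZero_single_obj_X (ComplexShape.up ℤ) b M m h)).1
  have hqF : ∀ m, (F.X m).IsQuasicoherent := fun m =>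
    @Scheme.Modules.isQuasicoherent_restrictFunctor _ _ W.ι _ (S.X m) (hqS m)
  have : IsIso ((toRpush W.ι).app F) := PCohD.isIso_toRpush_affine W.ι F hqF
  have : IsIso ((toRpush W.ι).app J) := isIso_toRpush W.ι J
  let s' : F ⟶ J := (DCoh.restrictCx W).map s
  have : QuasiIso s' := inferInstanceAs (QuasiIso (((Scheme.Modules.restrictFunctor W.ι).mapHomologicalComplex (ComplexShape.up ℤ)).map s))
  have : IsIso ((pushQ W.ι).map s') := by
    have : IsIso ((DerivedCategory.Q ⋙ DCoh.Rpush W.ι).map s') :=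
      inferInstanceAs (IsIso ((DCoh.Rpush W.ι).map (Q.map s')))
    have h := (toRpush W.ι).naturality s'
    have : IsIso ((pushQ W.ι).map s' ≫ (toRpush W.ι).app J) := by rw [h]; infer_instance
    exact IsIso.of_isIso_comp_right _ ((toRpush W.ι).app J)
  let e : sq b ((MVSheaf.R W).obj M) ≅ Q.obj ((MVTriangle.Rc W).obj I) :=
    QCohAcy.singleQIso b _ ≪≫ Q.mapIso
      ((HomologicalComplex.singleMapHomologicalComplex (Scheme.Modules.pushforward W.ι)
          (ComplexShape.up ℤ) b).app _).symm ≪≫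
      (pushQ W.ι).mapIso
        ((HomologicalComplex.singleMapHomologicalComplex (Scheme.Modules.restrictFunctor W.ι)
          (ComplexShape.up ℤ) b).app M).symm ≪≫
      asIso ((pushQ W.ι).map s')
  have hqJ : DCoh.IsQCohD (Q.obj J : DCoh.D (W : Scheme.{u})) :=
    isQCohD_iso (asIso (Q.map s')) (QCohModel.isQCohD_Q_of_terms F hqF)
  have hJb : (Q.obj J : DCoh.D (W : Scheme.{u})).IsLE b := by
    have h1 : (Q.obj S).IsLE b := TStructure.t.isLE_of_iso (QCohAcy.singleQIso b M) b
    have h2 : (Q.obj I).IsLE b := TStructure.t.isLE_of_iso (asIso (Q.map s)) b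
    exact isLE_restr W.ι I b h2
  let P : CochainComplex X.Modules ℤ := (HomologicalComplex.single X.Modules (ComplexShape.up ℤ) k).obj V
  have h : Subsingleton (Q.obj ((DCoh.restrictCx W).obj P) ⟶ Q.obj J) := by
    let e' : Q.obj ((DCoh.restrictCx W).obj P) ≅ sq k (V.restrict W.ι) :=
      Q.mapIso ((HomologicalComplex.singleMapHomologicalComplex (Scheme.Modules.restrictFunctor W.ι)
        (ComplexShape.up ℤ) k).app V) ≪≫ (QCohAcy.singleQIso k _).symm
    have := @hom_zero _ _ _ (van_restrict hV hW) (Q.obj J) hqJ b hJb k (by omega)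
    exact @Equiv.subsingleton _ _ (Iso.homFromEquiv e') this
  have := subsingleton_to_Rc P I W h
  have h0 := this.elim ((QCohAcy.singleQIso k V).inv ≫ f ≫ e.hom) 0
  simpa [Preadditive.IsIso.comp_left_eq_zero, Preadditive.IsIso.comp_right_eq_zero] using h0

theorem isAffineHom_ι (hd : ∀ U V : X.Opens, IsAffineOpen U → IsAffineOpen V → IsAffineOpen (U ⊓ V))
    {W : X.Opens} (hW : IsAffineOpen W) : IsAffineHom W.ι := by
  refine ⟨fun U hU => ?_⟩
  rw [← W.ι.isAffineOpen_iff_of_isOpenImmersion, Scheme.Hom.image_preimage_eq_opensRange_inf,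
    Scheme.Opens.opensRange_ι]
  exact hd W U hW hU

/-- A quasi-coherent module embeds in one without higher extensions from locally free modules. -/
theorem exists_mono_acyclic [CompactSpace X]
    (hd : ∀ U V : X.Opens, IsAffineOpen U → IsAffineOpen V → IsAffineOpen (U ⊓ V))
    (M : X.Modules) (hM : Coh.IsQCoh M) :
    ∃ (N : X.Modules) (i : M ⟶ N), Mono i ∧ Coh.IsQCoh N ∧
      ∀ (V : X.Modules), FlatMod.IsFinLocFree V → ∀ k b : ℤ, b < k → ∀ f : sq k V ⟶ sq b N, f = 0 := by
  obtain ⟨t, ht, e⟩ := (isCompact_iff_finite_and_eq_biUnion_affineOpens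
    (U := (⊤ : X.Opens))).mp isCompact_univ
  obtain ⟨n, W, hW⟩ := ht.fin_embedding
  let N : Fin n → X.Modules := fun i => (MVSheaf.R (W i).1).obj M
  have hι : ∀ i, IsAffineHom (W i).1.ι := fun i => isAffineHom_ι hd (W i).2
  let i : M ⟶ ⨁ N := biproduct.lift fun i => (MVSheaf.η (W i).1).app M
  refine ⟨⨁ N, i, ?_, ?_, ?_⟩
  · refine Preadditive.mono_of_cancel_zero _ fun {Z} g hg => ?_
    refine Scheme.Modules.hom_ext _ _ fun O => ?_
    ext z
    refine TopCat.Sheaf.eq_of_locally_eq' ⟨M.presheaf, M.isSheaf⟩ (fun j => O ⊓ (W j).1) O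
      (fun j => homOfLE inf_le_left) (fun y hy => ?_) _ _ fun j => ?_
    · have hy' : y ∈ (⊤ : X.Opens) := trivial
      rw [e] at hy'
      simp only [TopologicalSpace.Opens.mem_iSup] at hy'
      obtain ⟨U, hU, hyU⟩ := hy'
      rw [← hW] at hU
      obtain ⟨j, rfl⟩ := hU
      exact TopologicalSpace.Opens.mem_iSup.2 ⟨j, hy, hyU⟩
    · have h0 : g ≫ (MVSheaf.η (W j).1).app M = 0 := by
        have := congr($hg ≫ biproduct.π N j)
        simpa [i] using this
      refine (MVSheaf.bijective_η (W j).1 M (inf_le_right : O ⊓ (W j).1 ≤ (W j).1)).1 ?_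
      have h1 := congr(Scheme.Modules.Hom.app $h0 (O ⊓ (W j).1))
      have n := congr($(g.mapPresheaf.naturality (homOfLE (inf_le_left : O ⊓ (W j).1 ≤ O)).op) z)
      refine (congrArg _ n.symm).trans ((congr($h1 _)).trans ?_)
      exact ((congrArg _ (map_zero (M.presheaf.map (homOfLE (inf_le_left : O ⊓ (W j).1 ≤ O)).op).hom)).trans
        (map_zero _)).symm
  · have : ∀ j, (N j).IsQuasicoherent := fun j => by
      have := @Scheme.Modules.isQuasicoherent_restrictFunctor _ _ (W j).1.ι _ M hM
      have := hι j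
      exact QCoh.isQuasicoherent_pushforward (W j).1.ι _
    exact CohAff.isQuasicoherent_biproduct N
  · intro V hV k b hkb f
    have h : ∀ j, f ≫ (singleFunctor X.Modules b).map (biproduct.π N j) = 0 := fun j =>
      @hom_push_eq_zero X V hV (W j).1 (W j).2 (hι j) M hM k b hkb _
    rw [← Category.comp_id f, ← CategoryTheory.Functor.map_id, ← biproduct.total, Functor.map_sum,
      Preadditive.comp_sum]
    exact Finset.sum_eq_zero fun j _ => by rw [Functor.map_comp, reassoc_of% (h j), zero_comp]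

/-- Classes in degree one are killed by an epimorphism from a finite locally free module. -/
theorem efface_one [CompactSpace X] [QuasiSeparatedSpace X] (hX : PerfAux.HasResolutionProperty X)
    {V : X.Modules} (hV : FlatMod.IsFinLocFree V) {M : X.Modules} (hM : Coh.IsQCoh M) {k b : ℤ}
    (hkb : b + 1 = k) (x : sq k V ⟶ sq b M) :
    ∃ (V' : X.Modules) (π : V' ⟶ V), FlatMod.IsFinLocFree V' ∧ Epi π ∧
      (singleFunctor X.Modules k).map π ≫ x = 0 := by
  let H := homologyFunctor X.Modules
  obtain ⟨W, f, h, hT⟩ := distinguished_cocone_triangle₁ x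
  let T : Triangle (DCoh.D X) := Triangle.mk f x h
  have hqV : Coh.IsQCoh V := PerfTri.Betti.isQuasicoherent_of_isFinLocFree hV
  have hWge : W.IsGE k := (isGE_iff W k).2 fun i hi =>
    (HomologySequence.exact₁ T hT (i - 1) i (by omega)).isZero_X₂
      ((isZero_of_isGE (sq b M) b (i - 1) (by omega)).eq_of_src _ _ |> fun h => h) 
      ((isZero_of_isGE (sq k V) k i hi).eq_of_tgt _ _)
  have hWle : W.IsLE k := (isLE_iff W k).2 fun i hi =>
    (HomologySequence.exact₁ T hT (i - 1) i (by omega)).isZero_X₂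
      ((isZero_of_isLE (sq b M) b (i - 1) (by omega)).eq_of_src _ _)
      ((isZero_of_isLE (sq k V) k i hi).eq_of_tgt _ _)
  obtain ⟨A, ⟨e⟩⟩ := exists_iso_singleFunctor_obj_of_isGE_of_isLE W k
  have hqW : DCoh.IsQCohD W := PCohD.isQCohD_obj₃ T.invRotate.invRotate
    (inv_rot_of_distTriang _ (inv_rot_of_distTriang _ hT))
    (isQCohD_shift (isQCohD_single' hqV k) _) (isQCohD_shift (isQCohD_single' hM b) _)
  have hqA : Coh.IsQCoh A :=
    @QCoh.isQuasicoherent_of_iso X _ _
      ((H k).mapIso e ≪≫ (singleFunctorCompHomologyFunctorIso X.Modules k).app A) (hqW k)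
  obtain ⟨p, hp⟩ := (singleFunctor X.Modules k).map_surjective (e.inv ≫ f)
  have : Epi ((H k).map f) :=
    (HomologySequence.exact₂ T hT k).epi_f ((isZero_of_isLE (sq b M) b k (by omega)).eq_of_tgt _ _)
  have : Epi p := by
    have h1 : Epi ((H k).map ((singleFunctor X.Modules k).map p)) := by
      rw [hp, Functor.map_comp]; exact epi_comp _ _
    have h2 := (singleFunctorCompHomologyFunctorIso X.Modules k).hom.naturality p
    have : Epi ((singleFunctorCompHomologyFunctorIso X.Modules k).hom.app A ≫ p) := by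
      rw [← show _ = _ ≫ p from h2]; exact @epi_comp _ _ _ _ _ _ h1 _ _
    exact epi_of_epi ((singleFunctorCompHomologyFunctorIso X.Modules k).hom.app A) p
  obtain ⟨V', m, hV', hm⟩ := PerfModel.exists_finLocFree_lift hX p hqA hqV
    (@Desc44.SmoothFactor.isFT_of_isFinLocFree _ _ hV hqV)
  refine ⟨V', m ≫ p, hV', hm, ?_⟩
  rw [Functor.map_comp, hp, Category.assoc, Category.assoc,
    show f ≫ x = 0 from comp_distTriang_mor_zero₁₂ T hT, comp_zero, comp_zero]

/-- Classes in positive degrees are killed by epimorphisms from finite locally free modules. -/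
theorem efface_single [CompactSpace X] [QuasiSeparatedSpace X] (hX : PerfAux.HasResolutionProperty X) :
    ∀ (d : ℕ) (M : X.Modules), Coh.IsQCoh M → ∀ (V : X.Modules), FlatMod.IsFinLocFree V →
      ∀ (k b : ℤ), k = b + (d + 1 : ℕ) → ∀ x : sq k V ⟶ sq b M,
      ∃ (V' : X.Modules) (π : V' ⟶ V), FlatMod.IsFinLocFree V' ∧ Epi π ∧
        (singleFunctor X.Modules k).map π ≫ x = 0 := by
  intro d
  induction d with
  | zero =>
    intro M hM V hV k b hk x
    exact efface_one hX hV hM (by push_cast at hk; omega) x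
  | succ d ih =>
    intro M hM V hV k b hk x
    obtain ⟨N, i, hi, hN, hvan⟩ :=
      exists_mono_acyclic (fun U V hU hV => Groth.Agent.S1009.result X hX U V hU hV) M hM
    let S := ShortComplex.mk i (cokernel.π i) (cokernel.condition i)
    have hS : S.ShortExact :=
      { exact := ShortComplex.exact_of_g_is_cokernel _ (cokernelIsCokernel _) }
    have hQ : Coh.IsQCoh S.X₃ := @QCoh.isQuasicoherent_cokernel X _ _ i hM hN
    let T := triangleOfSES (hS.map_of_exact (HomologicalComplex.single X.Modules (ComplexShape.up ℤ) b))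
    have hT : T ∈ distinguishedTriangles := triangleOfSES_distinguished _
    let f₀ : sq k V ⟶ T.obj₁ := x ≫ (QCohAcy.singleQIso b M).hom
    have h1 : f₀ ≫ T.mor₁ = 0 := by
      have := hvan V hV k b (by omega) ((f₀ ≫ T.mor₁) ≫ (QCohAcy.singleQIso b N).inv)
      exact (cancel_mono (QCohAcy.singleQIso b N).inv).1 (this.trans zero_comp.symm)
    obtain ⟨g, hg⟩ := Triangle.coyoneda_exact₁ T hT (f₀⟦(1 : ℤ)⟧')
      (((shiftFunctor (DCoh.D X) (1 : ℤ)).map_comp f₀ T.mor₁).symm.trans
        ((congrArg _ h1).trans (Functor.map_zero _ _ _)))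
    let k' : ℤ := b + (d + 1 : ℕ)
    let e := (singleFunctors X.Modules).shiftIso 1 k' k (by simp [k']; omega)
    obtain ⟨V', π, hV', hπ, h0⟩ := ih S.X₃ hQ V hV k' b rfl
      (e.inv.app V ≫ g ≫ (QCohAcy.singleQIso b S.X₃).inv)
    refine ⟨V', π, hV', hπ, ?_⟩
    have hn := e.inv.naturality π
    dsimp at hn
    have h2 : ((singleFunctor X.Modules k).map π)⟦(1 : ℤ)⟧' ≫ g = 0 := by
      rw [← cancel_epi (e.inv.app V'), comp_zero, ← reassoc_of% hn,
        ← cancel_mono (QCohAcy.singleQIso b S.X₃).inv, zero_comp, Category.assoc, Category.assoc]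
      exact h0
    have h3 : ((singleFunctor X.Modules k).map π ≫ f₀)⟦(1 : ℤ)⟧' = 0 := by
      rw [Functor.map_comp, hg, reassoc_of% h2, zero_comp]
    have h4 : (singleFunctor X.Modules k).map π ≫ f₀ = 0 :=
      (shiftFunctor (DCoh.D X) (1 : ℤ)).map_injective (h3.trans (Functor.map_zero _ _ _).symm)
    exact (cancel_mono (QCohAcy.singleQIso b M).hom).1
      (((Category.assoc _ _ _).trans h4).trans zero_comp.symm)

/-- Maps into objects concentrated in lower degrees are effaceable. -/
theorem efface [CompactSpace X] [QuasiSeparatedSpace X] (hX : PerfAux.HasResolutionProperty X)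
    (G : DCoh.D X) (hG : DCoh.IsQCohD G) (a b : ℤ) [G.IsGE a] [G.IsLE b]
    {V : X.Modules} (hV : FlatMod.IsFinLocFree V) {k : ℤ} (hk : b < k) (x : sq k V ⟶ G) :
    ∃ (V' : X.Modules) (π : V' ⟶ V), FlatMod.IsFinLocFree V' ∧ Epi π ∧
      (singleFunctor X.Modules k).map π ≫ x = 0 := by
  obtain ⟨n, hn⟩ : ∃ n : ℕ, b < a + n := ⟨(b - a).toNat + 1, by omega⟩
  induction n generalizing a G with
  | zero =>
    refine ⟨V, 𝟙 V, hV, inferInstance, IsZero.eq_of_tgt ?_ _ _⟩
    exact (IsZero.iff_id_eq_zero G).2 (TStructure.t.zero_of_isLE_of_isGE _ b a (by omega) ‹_› ‹_›)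
  | succ n ih =>
    by_cases hab : b < a
    · exact ih G hG a x (by omega)
    let g : G ⟶ (TStructure.t.truncGE (a + 1)).obj G := (TStructure.t.truncGEπ (a + 1)).app G
    obtain ⟨W, f, h, hT, ⟨e⟩⟩ := HComp.fibre_single g a
      (fun i hi => HComp.isIso_homology_truncGEπ G (a + 1) i hi)
    have hW : Coh.IsQCoh W := qcoh_iso e.symm (hG a)
    have := isLE_truncGE G (a + 1) b
    obtain ⟨V₁, π₁, hV₁, hπ₁, h₁⟩ := ih ((TStructure.t.truncGE (a + 1)).obj G) (isQCohD_truncGE hG _)
      (a + 1) (x ≫ g) (by omega)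
    obtain ⟨y, hy⟩ := Triangle.coyoneda_exact₂ _ hT ((singleFunctor X.Modules k).map π₁ ≫ x)
      ((Category.assoc _ _ _).trans h₁)
    obtain ⟨d, hd⟩ : ∃ d : ℕ, k = a + (d + 1 : ℕ) := ⟨(k - a - 1).toNat, by omega⟩
    obtain ⟨V₂, π₂, hV₂, hπ₂, h₂⟩ := efface_single hX d W hW V₁ hV₁ k a hd y
    refine ⟨V₂, π₂ ≫ π₁, hV₂, epi_comp _ _, ?_⟩
    rw [Functor.map_comp, Category.assoc, hy]
    exact (Category.assoc _ _ _).symm.trans ((congrArg (· ≫ f) h₂).trans zero_comp)

end Groth.Agent.PerfRP
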