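import Groth.Agent.PerfRP.Roof
import Groth.Agent.PerfTri.Perfect

/-!
# Morphisms of strictly perfect complexes in the derived category
-/

set_option autoImplicit false
set_option backward.isDefEq.respectTransparency.types false
set_option backward.isDefEq.respectTransparency false

universe u

open CategoryTheory CategoryTheory.Limits AlgebraicGeometry DerivedCategory Pretriangulated

attribute [local instance] HasDerivedCategory.standard preservesBinaryBiproducts_of_preservesBiproducts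

noncomputable section

namespace Groth.Agent.PerfRP

variable {X : Scheme.{u}}

theorem isPerfect_of_sp {E : CochainComplex X.Modules ℤ} (hE : DCoh.IsStrictlyPerfect E) :
    DCoh.IsPerfect (Q.obj E) :=
  (PerfTri.Perfect.near_iff _).mpr fun x => ⟨X, 𝟙 X, inferInstance, ⟨x, rfl⟩,
    PerfTri.Perfect.isSP_restrict_hom ⟨E, hE, ⟨Iso.refl _⟩⟩ (𝟙 X)⟩

theorem isQCoh_terms {E : CochainComplex X.Modules ℤ} (hE : DCoh.IsStrictlyPerfect E) (i : ℤ) :
    Coh.IsQCoh (E.X i) := PerfTri.Betti.isQuasicoherent_of_isFinLocFree (hE.2 i)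

variable [CompactSpace X] [QuasiSeparatedSpace X]

/-- Morphisms in the derived category between strictly perfect complexes are roofs. -/
theorem exists_roof (hX : PerfAux.HasResolutionProperty X) (E F : CochainComplex X.Modules ℤ)
    (hE : DCoh.IsStrictlyPerfect E) (hF : DCoh.IsStrictlyPerfect F) (α : Q.obj E ⟶ Q.obj F) :
    ∃ (G : CochainComplex X.Modules ℤ) (g : G ⟶ E) (h : G ⟶ F),
      DCoh.IsStrictlyPerfect G ∧ QuasiIso g ∧ Q.map g ≫ α = Q.map h := by
  obtain ⟨⟨a₁, b₁, h₁⟩, h₁'⟩ := id hE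
  obtain ⟨⟨a₂, b₂, h₂⟩, h₂'⟩ := id hF
  let lam : Q.obj E ⟶ Q.obj (E ⊞ F) := Q.map biprod.inl + α ≫ Q.map biprod.inr
  have hl₁ : lam ≫ Q.map biprod.fst = 𝟙 _ := by
    simp [lam, Preadditive.add_comp, ← Functor.map_comp]
  have hl₂ : lam ≫ Q.map biprod.snd = α := by
    simp [lam, Preadditive.add_comp, ← Functor.map_comp]
  obtain ⟨G, e, φ, hG, he, hφ⟩ := exists_model_over hX (Q.obj E) (isPerfect_of_sp hE) (E ⊞ F)
    (fun i => @QCoh.isQuasicoherent_of_iso X _ _ (HomologicalComplex.biprodXIso E F i).symm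
      (CohDev.isQCoh_biprod (isQCoh_terms hE i) (isQCoh_terms hF i)))
    (min a₁ a₂)
    (fun i hi => IsZero.of_iso ((biprod_isZero_iff _ _).2 ⟨h₁ i (by omega), h₂ i (by omega)⟩)
      (HomologicalComplex.biprodXIso E F i)) lam
  have hg : Q.map (φ ≫ biprod.fst) = e := by
    rw [Functor.map_comp, hφ, Category.assoc, hl₁, Category.comp_id]
  refine ⟨G, φ ≫ biprod.fst, φ ≫ biprod.snd, hG, ?_, ?_⟩
  · rw [← isIso_Q_map_iff_quasiIso, hg]
    exact he
  · rw [hg, Functor.map_comp, hφ, Category.assoc, hl₂]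

/-- Equal morphisms in the derived category are homotopic after a strictly perfect quasi-isomorphism. -/
theorem exists_homotopy (hX : PerfAux.HasResolutionProperty X) (E F : CochainComplex X.Modules ℤ)
    (hE : DCoh.IsStrictlyPerfect E) (hF : DCoh.IsStrictlyPerfect F) (α β : E ⟶ F)
    (hαβ : Q.map α = Q.map β) :
    ∃ (G : CochainComplex X.Modules ℤ) (γ : G ⟶ E),
      DCoh.IsStrictlyPerfect G ∧ QuasiIso γ ∧ Nonempty (Homotopy (γ ≫ α) (γ ≫ β)) := by
  let d : E ⟶ F := α - β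
  let M := CochainComplex.mappingCone d
  let m : M ⟶ E⟦(1 : ℤ)⟧ := (CochainComplex.mappingCone.triangle d).mor₃
  have hM : DCoh.IsStrictlyPerfect M := PerfTri.Cone.isStrictlyPerfect_mappingCone d hE hF
  obtain ⟨⟨a, b, hMv⟩, -⟩ := id hM
  let T := Q.mapTriangle.obj (CochainComplex.mappingCone.triangle d)
  have hd : Q.map d = 0 := by rw [Functor.map_sub, hαβ, sub_self]
  obtain ⟨σ, hσ⟩ := Triangle.coyoneda_exact₁ T (mappingCone_triangle_distinguished d) (𝟙 (T.obj₁⟦(1 : ℤ)⟧))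
    (by
      rw [Category.id_comp]
      show (Q.map d)⟦(1 : ℤ)⟧' = 0
      rw [hd, Functor.map_zero])
  let c := (Q.commShiftIso (1 : ℤ)).app E
  let lam : Q.obj (E⟦(1 : ℤ)⟧) ⟶ Q.obj M := c.hom ≫ σ
  have hl : lam ≫ Q.map m = 𝟙 _ := by
    rw [← cancel_mono c.hom, Category.id_comp, Category.assoc, Category.assoc]
    exact (congrArg (c.hom ≫ ·) hσ.symm).trans (Category.comp_id _)
  obtain ⟨G', e, φ, hG', he, hφ⟩ := exists_model_over hX (Q.obj (E⟦(1 : ℤ)⟧))
    (isPerfect_of_sp (PerfTri.Perfect.isStrictlyPerfect_shift hE 1)) M (isQCoh_terms hM) a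
    (fun i hi => hMv i (Or.inl hi)) lam
  let γ' : G' ⟶ E⟦(1 : ℤ)⟧ := φ ≫ m
  have hγ' : IsIso (Q.map γ') := by
    rw [Functor.map_comp, hφ, Category.assoc, hl, Category.comp_id]
    exact he
  let σ₁ := shiftFunctorCompIsoId (CochainComplex X.Modules ℤ) (1 : ℤ) (-1) (by omega)
  let γ : G'⟦(-1 : ℤ)⟧ ⟶ E := γ'⟦(-1 : ℤ)⟧' ≫ σ₁.hom.app E
  refine ⟨G'⟦(-1 : ℤ)⟧, γ, PerfTri.Perfect.isStrictlyPerfect_shift hG' (-1), ?_, ?_⟩
  · rw [← isIso_Q_map_iff_quasiIso, Functor.map_comp]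
    have : IsIso (Q.map (γ'⟦(-1 : ℤ)⟧')) :=
      (NatIso.isIso_map_iff (Q.commShiftIso (-1 : ℤ)) γ').2 (inferInstanceAs (IsIso ((Q.map γ')⟦(-1 : ℤ)⟧')))
    infer_instance
  · let P := HomotopyCategory.quotient X.Modules (ComplexShape.up ℤ)
    have h0 : P.map (m ≫ d⟦(1 : ℤ)⟧') = 0 := by
      rw [← cancel_mono ((P.commShiftIso (1 : ℤ)).hom.app F), zero_comp, Functor.map_comp, Category.assoc,
        show P.map (d⟦(1 : ℤ)⟧') ≫ (P.commShiftIso (1 : ℤ)).hom.app F =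
          (P.commShiftIso (1 : ℤ)).hom.app E ≫ (P.map d)⟦(1 : ℤ)⟧' from (P.commShiftIso (1 : ℤ)).hom.naturality d]
      have := comp_distTriang_mor_zero₃₁ _
        (HomotopyCategory.mappingCone_triangleh_distinguished d)
      exact (Category.assoc _ _ _).symm.trans this
    have h1 : P.map (γ ≫ d) = 0 := by
      have hn : σ₁.hom.app E ≫ d = (d⟦(1 : ℤ)⟧')⟦(-1 : ℤ)⟧' ≫ σ₁.hom.app F := (σ₁.hom.naturality d).symm
      rw [show γ ≫ d = ((φ ≫ m ≫ d⟦(1 : ℤ)⟧')⟦(-1 : ℤ)⟧') ≫ σ₁.hom.app F by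
        simp only [γ, γ', Functor.map_comp, Category.assoc, hn], Functor.map_comp]
      have hs : P.map ((φ ≫ m ≫ d⟦(1 : ℤ)⟧')⟦(-1 : ℤ)⟧') = 0 := by
        rw [← cancel_mono ((P.commShiftIso (-1 : ℤ)).hom.app _), zero_comp]
        refine ((P.commShiftIso (-1 : ℤ)).hom.naturality _).trans ?_
        show _ ≫ (P.map (φ ≫ m ≫ d⟦(1 : ℤ)⟧'))⟦(-1 : ℤ)⟧' = 0
        rw [Functor.map_comp, h0, comp_zero, Functor.map_zero, comp_zero]
      rw [hs, zero_comp]
    refine ⟨HomotopyCategory.homotopyOfEq _ _ ?_⟩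
    have h2 : P.map (γ ≫ α) - P.map (γ ≫ β) = 0 := by
      rw [← Functor.map_sub, ← Preadditive.comp_sub]
      exact h1
    exact sub_eq_zero.1 h2

end Groth.Agent.PerfRP
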