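import Groth.Agent.PerfRP.Hom
import Groth.Agent.ResK0.Basic
import Groth.Prelude.Def_KZero
import Mathlib.Algebra.Homology.DerivedCategory.SingleTriangle
import Mathlib.Algebra.BigOperators.Finprod
import Mathlib.Algebra.Ring.NegOnePow
import Mathlib.Data.Int.Interval

/-!
# `K₀` of vector bundles and of perfect objects
-/

set_option autoImplicit false
set_option backward.isDefEq.respectTransparency.types false
set_option backward.isDefEq.respectTransparency false

universe u

open CategoryTheory CategoryTheory.Limits AlgebraicGeometry DerivedCategory Pretriangulated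
open scoped ZeroObject

attribute [local instance] HasDerivedCategory.standard preservesBinaryBiproducts_of_preservesBiproducts

noncomputable section

namespace Groth.Agent.PerfRP.K0

variable {X : Scheme.{u}}

/-- Finite locally free modules. -/
abbrev LF : ObjectProperty X.Modules := fun M => FlatMod.IsFinLocFree M

/-- The class of a finite locally free module. -/
abbrev cS (M : X.Modules) : KZero.K0sub (LF (X := X)) := KZero.clSub LF M

/-- Perfect objects. -/
abbrev PF : ObjectProperty (DCoh.D X) := fun K => DCoh.IsPerfect K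

/-- The class of a perfect object. -/
abbrev cT (K : DCoh.D X) : KZero.K0tr (PF (X := X)) := KZero.clTr PF K

theorem cS_zero {M : X.Modules} (h : IsZero M) : cS M = 0 :=
  left_eq_add.1 (ResK0.Basic.clSub_add LF
    (S := ShortComplex.mk (0 : M ⟶ M) (0 : M ⟶ M) zero_comp)
    { exact := ShortComplex.exact_of_isZero_X₂ _ h
      mono_f := ⟨fun _ _ _ => h.eq_of_tgt _ _⟩
      epi_g := ⟨fun _ _ _ => h.eq_of_src _ _⟩ }
    (PerfModel.isFinLocFree_of_isZero h) (PerfModel.isFinLocFree_of_isZero h) (PerfModel.isFinLocFree_of_isZero h))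

theorem cS_iso {M N : X.Modules} (e : M ≅ N) (h : LF M) : cS M = cS N := by
  have := ResK0.Basic.clSub_add LF (ResK0.Basic.shortExact_kernel e.hom)
    (PerfModel.isFinLocFree_of_isZero (isZero_kernel_of_mono e.hom)) h (KFlat.LocFree.isFinLocFree_of_iso e h)
  change cS M = cS (kernel e.hom) + cS N at this
  rw [this, cS_zero (isZero_kernel_of_mono e.hom), zero_add]

/-- Euler characteristic. -/
def χ (E : CochainComplex X.Modules ℤ) : KZero.K0sub (LF (X := X)) :=
  ∑ᶠ i : ℤ, (Int.negOnePow i : ℤ) • cS (E.X i)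

theorem χ_eq_sum {E : CochainComplex X.Modules ℤ} {a b : ℤ} (h : DCoh.VanishesOutside E a b) (s : Finset ℤ)
    (hs : Finset.Icc a b ⊆ s) : χ E = ∑ i ∈ s, (Int.negOnePow i : ℤ) • cS (E.X i) := by
  refine finsum_eq_sum_of_support_subset _ fun i hi => ?_
  by_contra hne
  refine hi ?_
  show (Int.negOnePow i : ℤ) • cS (E.X i) = 0
  rw [cS_zero (h i (by
    by_contra hc
    push Not at hc
    exact hne (hs (Finset.mem_Icc.2 hc)))), smul_zero]

theorem χ_acyclic {E : CochainComplex X.Modules ℤ} (hE : DCoh.IsStrictlyPerfect E)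
    (hac : ∀ i, IsZero (E.homology i)) : χ E = 0 := by
  obtain ⟨⟨a, b, hb⟩, hf⟩ := hE
  have hepi : ∀ i, Epi (E.toCycles i (i + 1)) := fun i => by
    let S := ShortComplex.mk (E.toCycles i (i + 1)) (E.homologyπ (i + 1)) (E.toCycles_comp_homologyπ _ _)
    have hS : S.Exact := ShortComplex.exact_of_g_is_cokernel _ (E.homologyIsCokernel i (i + 1) (by simp))
    exact hS.epi_f ((hac (i + 1)).eq_of_tgt _ _)
  have hstep : ∀ i, LF (E.cycles (i + 1)) → LF (E.cycles i) ∧ cS (E.X i) = cS (E.cycles i) + cS (E.cycles (i + 1)) := by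
    intro i hi
    have := hepi i
    let S := ShortComplex.mk (E.iCycles i) (E.toCycles i (i + 1)) (by
      rw [← cancel_mono (E.iCycles (i + 1))]; simp)
    have hk : IsLimit (KernelFork.ofι S.f S.zero) :=
      KernelFork.IsLimit.ofι' _ _ fun {W} k hk => ⟨E.liftCycles k (i + 1) (by simp) (by
        have := hk =≫ E.iCycles (i + 1)
        simpa [S] using this), by simp [S]⟩
    have : Mono S.f := inferInstanceAs (Mono (E.iCycles i))
    have hS : S.ShortExact := { exact := ShortComplex.exact_of_f_is_kernel _ hk }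
    have hZ : LF (E.cycles i) := KFlat.LocFree.isFinLocFree_of_iso
      ((kernelIsKernel S.g).conePointUniqueUpToIso hk) (PCohD.PerfAmp.isFinLocFree_kernel S.g (hf i) hi)
    exact ⟨hZ, ResK0.Basic.clSub_add LF hS hZ (hf i) hi⟩
  have hzero : ∀ i, (i < a ∨ b < i) → IsZero (E.cycles i) := fun i hi =>
    IsZero.of_mono (E.iCycles i) (hb i hi)
  have hZ : ∀ i, LF (E.cycles i) := by
    have : ∀ (n : ℕ) i, b + 1 ≤ i + (n : ℤ) → LF (E.cycles i) := fun n => by
      induction n with
      | zero => exact fun i hi => PerfModel.isFinLocFree_of_isZero (hzero i (Or.inr (by omega)))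
      | succ n ih => exact fun i hi => (hstep i (ih (i + 1) (by omega))).1
    exact fun i => this (b + 1 - i).toNat i (by omega)
  have htel : ∀ m : ℕ, ∑ i ∈ Finset.Ico (a - 1) (a - 1 + m), (Int.negOnePow i : ℤ) • (cS (E.cycles i) + cS (E.cycles (i + 1))) =
      (Int.negOnePow (a - 1) : ℤ) • cS (E.cycles (a - 1)) - (Int.negOnePow (a - 1 + m) : ℤ) • cS (E.cycles (a - 1 + m)) := by
    intro m
    induction m with
    | zero => simp
    | succ m ih =>
      rw [show a - 1 + ((m + 1 : ℕ) : ℤ) = a - 1 + m + 1 by omega,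
        show Finset.Ico (a - 1) (a - 1 + m + 1) = insert (a - 1 + (m : ℤ)) (Finset.Ico (a - 1) (a - 1 + m)) by ext; simp only [Finset.mem_Ico, Finset.mem_insert]; omega,
        Finset.sum_insert (by simp), ih, Int.negOnePow_succ, Units.val_neg, neg_smul, smul_add]
      abel
  obtain ⟨n, hn⟩ : ∃ n : ℕ, n = (b + 3 - a).toNat := ⟨_, rfl⟩
  rw [χ_eq_sum hb (Finset.Ico (a - 1) (a - 1 + n)) (fun i hi => by
    rw [Finset.mem_Icc] at hi; rw [Finset.mem_Ico]; omega)]
  rw [Finset.sum_congr rfl fun i _ => by rw [(hstep i (hZ (i + 1))).2], htel n,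
    cS_zero (hzero (a - 1) (Or.inl (by omega))), cS_zero (hzero (a - 1 + n) (by omega)), smul_zero, smul_zero, sub_self]

theorem χ_cone {E F : CochainComplex X.Modules ℤ} (f : E ⟶ F) (hE : DCoh.IsStrictlyPerfect E)
    (hF : DCoh.IsStrictlyPerfect F) : χ (CochainComplex.mappingCone f) = χ F - χ E := by
  obtain ⟨⟨a, b, hb⟩, hEf⟩ := hE
  obtain ⟨⟨a', b', hb'⟩, hFf⟩ := hF
  have hvan : DCoh.VanishesOutside (CochainComplex.mappingCone f) (min (a - 1) a') (max (b - 1) b') := fun i hi =>
    (CochainComplex.mappingCone.isZero_X_iff f i).2 ⟨hb (i + 1) (by omega), hb' i (by omega)⟩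
  have hX : ∀ i, cS ((CochainComplex.mappingCone f).X i) = cS (E.X (i + 1)) + cS (F.X i) := fun i => by
    have hbi := PerfTri.Cone.isFinLocFree_biprod (hEf (i + 1)) (hFf i)
    let e := CohModel.coneXIso f i
    refine (cS_iso e.symm hbi).symm.trans ?_
    exact ResK0.Basic.clSub_add LF
      (ShortComplex.Splitting.ofHasBinaryBiproduct (E.X (i + 1)) (F.X i)).shortExact (hEf (i + 1)) hbi (hFf i)
  let s := Finset.Icc (min (a - 1) a' - 1) (max (b - 1) b' + 1)
  have hs1 : χ F = ∑ i ∈ s, (Int.negOnePow i : ℤ) • cS (F.X i) :=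
    χ_eq_sum hb' s (fun i hi => by simp only [s, Finset.mem_Icc] at hi ⊢; omega)
  have hs2 : χ E = ∑ i ∈ s, -((Int.negOnePow i : ℤ) • cS (E.X (i + 1))) := by
    rw [χ_eq_sum hb (s.map (addRightEmbedding 1)) (fun i hi => by
      rw [Finset.mem_map]
      simp only [s, Finset.mem_Icc] at hi ⊢
      exact ⟨i - 1, by omega, by simp⟩), Finset.sum_map]
    exact Finset.sum_congr rfl fun i _ => by
      rw [addRightEmbedding_apply, Int.negOnePow_succ, Units.val_neg, neg_smul]
  rw [χ_eq_sum hvan s (fun i hi => by simp only [s, Finset.mem_Icc] at hi ⊢; omega), hs1, hs2,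
    Finset.sum_neg_distrib, sub_neg_eq_add, ← Finset.sum_add_distrib]
  exact Finset.sum_congr rfl fun i _ => by rw [hX i, smul_add, add_comm]

theorem χ_of_isIso {E F : CochainComplex X.Modules ℤ} (f : E ⟶ F) (hE : DCoh.IsStrictlyPerfect E)
    (hF : DCoh.IsStrictlyPerfect F) (hf : IsIso (Q.map f)) : χ E = χ F := by
  have hz : IsZero (Q.obj (CochainComplex.mappingCone f) : DCoh.D X) :=
    Triangle.isZero₃_of_isIso₁ _ (DerivedCategory.mappingCone_triangle_distinguished f) hf
  have h := χ_cone f hE hF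
  rw [χ_acyclic (PerfTri.Cone.isStrictlyPerfect_mappingCone f hE hF) fun i =>
    (PCohD.isZero_homology_Q _ i).1 ((DerivedCategory.homologyFunctor X.Modules i).map_isZero hz)] at h
  exact (sub_eq_zero.1 h.symm).symm

theorem cT_add {T : Triangle (DCoh.D X)} (hT : T ∈ distinguishedTriangles) (h₁ : PF T.obj₁) (h₂ : PF T.obj₂)
    (h₃ : PF T.obj₃) : cT T.obj₂ = cT T.obj₁ + cT T.obj₃ := by
  simp only [cT, KZero.clTr, dif_pos h₁, dif_pos h₂, dif_pos h₃, ← QuotientAddGroup.mk_add]
  rw [QuotientAddGroup.eq_iff_sub_mem, sub_add_eq_sub_sub]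
  exact AddSubgroup.subset_closure ⟨T, h₁, h₂, h₃, hT, rfl⟩

theorem pf_zero {K : DCoh.D X} (h : IsZero K) : PF K :=
  PerfTri.Perfect.isPerfect_of_iso ((Q.map_isZero (isZero_zero _)).iso h)
    (isPerfect_of_sp (PCohD.isStrictlyPerfect_zero (X := X)))

theorem cT_zero {K : DCoh.D X} (h : IsZero K) : cT K = 0 := by
  have hT : Triangle.mk (0 : K ⟶ K) (0 : K ⟶ K) (0 : K ⟶ (shiftFunctor (DCoh.D X) (1 : ℤ)).obj K) ∈ distinguishedTriangles :=
    isomorphic_distinguished _ (contractible_distinguished (0 : DCoh.D X)) _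
      (Triangle.isoMk _ _ h.isoZero h.isoZero h.isoZero (h.eq_of_src _ _) (h.eq_of_src _ _) (h.eq_of_src _ _))
  exact left_eq_add.1 (cT_add hT (pf_zero h) (pf_zero h) (pf_zero h))

theorem cT_iso {K L : DCoh.D X} (e : K ≅ L) (h : PF K) : cT L = cT K := by
  obtain ⟨Z, g, δ, hT⟩ := distinguished_cocone_triangle e.hom
  have hz : IsZero Z := Triangle.isZero₃_of_isIso₁ _ hT (inferInstanceAs (IsIso e.hom))
  have h1 : cT L = cT K + cT Z := cT_add hT h (PerfTri.Perfect.isPerfect_of_iso e h) (pf_zero hz)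
  rw [h1, cT_zero hz, add_zero]

theorem cT_shift_one {K : DCoh.D X} (h : PF K) : cT ((shiftFunctor (DCoh.D X) (1 : ℤ)).obj K) = - cT K := by
  have hz : IsZero (0 : DCoh.D X) := isZero_zero _
  have h1 : cT (0 : DCoh.D X) = cT K + cT ((shiftFunctor (DCoh.D X) (1 : ℤ)).obj K) :=
    cT_add (rot_of_distTriang _ (contractible_distinguished K)) h (pf_zero hz) (PerfTri.Perfect.isPerfect_shift h 1)
  rw [cT_zero hz] at h1
  exact eq_neg_of_add_eq_zero_right h1.symm

theorem sp_single {M : X.Modules} (h : LF M) (n : ℤ) : DCoh.IsStrictlyPerfect ((sc n).obj M) :=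
  ⟨⟨n, n, fun i hi => HomologicalComplex.isZero_single_obj_X _ _ _ i (by omega)⟩, PerfModel.isFinLocFree_single h n⟩

theorem χ_single {M : X.Modules} (h : LF M) (n : ℤ) : χ ((sc n).obj M) = (Int.negOnePow n : ℤ) • cS M := by
  rw [χ_eq_sum (fun i hi => HomologicalComplex.isZero_single_obj_X _ _ _ i (by omega) : DCoh.VanishesOutside ((sc n).obj M) n n)
    {n} (fun i hi => by rw [Finset.mem_Icc] at hi; rw [Finset.mem_singleton]; omega),
    Finset.sum_singleton, cS_iso (HomologicalComplex.singleObjXSelf (ComplexShape.up ℤ) n M)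
      (PerfModel.isFinLocFree_single h n n)]

theorem pf_sq {M : X.Modules} (h : LF M) (n : ℤ) : PF (sq n M) :=
  PerfTri.Perfect.isPerfect_of_iso (KFlat.QCohAcy.singleQIso n M).symm (isPerfect_of_sp (sp_single h n))

theorem cT_sq {M : X.Modules} (h : LF M) (n : ℤ) : cT (sq n M) = (Int.negOnePow n : ℤ) • cT (sq 0 M) := by
  have hs : ∀ k : ℤ, cT (sq k M) = - cT (sq (k + 1) M) := fun k =>
    (cT_iso (((DerivedCategory.singleFunctors X.Modules).shiftIso 1 k (k + 1) (by omega)).app M)
      (PerfTri.Perfect.isPerfect_shift (pf_sq h (k + 1)) 1)).trans (cT_shift_one (pf_sq h (k + 1)))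
  induction n using Int.induction_on with
  | zero => simp
  | succ n ih =>
    have h1 := hs n
    rw [ih] at h1
    rw [Int.negOnePow_succ, Units.val_neg, neg_smul, h1, neg_neg]
  | pred n ih =>
    have h1 := hs (-(n : ℤ) - 1)
    rw [sub_add_cancel, ih] at h1
    have h2 := Int.negOnePow_succ (-(n : ℤ) - 1)
    rw [sub_add_cancel] at h2
    rw [h1, h2, Units.val_neg, neg_smul, neg_neg]

variable [CompactSpace X] [QuasiSeparatedSpace X]

/-- `K₀` of vector bundles is `K₀` of perfect objects. -/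
theorem exists_equiv (hX : PerfAux.HasResolutionProperty X) :
    ∃ φ : KZero.K0sub (LF (X := X)) ≃+ KZero.K0tr (PF (X := X)), ∀ E : X.Modules, LF E → φ (cS E) = cT (DCoh.inD X E) := by
  classical
  let ψ₀ : FreeAbelianGroup (Subtype (PF (X := X))) →+ KZero.K0sub (LF (X := X)) :=
    FreeAbelianGroup.lift fun K => χ (exists_strictlyPerfect hX K.1 K.2).choose
  have χ_congr : ∀ {E F : CochainComplex X.Modules ℤ}, DCoh.IsStrictlyPerfect E → DCoh.IsStrictlyPerfect F →
      ((Q.obj E : DCoh.D X) ≅ Q.obj F) → χ E = χ F := fun {E F} hE hF e => by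
    obtain ⟨G, g, h, hG, hg, he⟩ := exists_roof hX E F hE hF e.hom
    have : IsIso (Q.map g) := (isIso_Q_map_iff_quasiIso (φ := g)).2 hg
    have : IsIso (Q.map h) := by rw [← he]; infer_instance
    rw [← χ_of_isIso g hG hE inferInstance, χ_of_isIso h hG hF inferInstance]
  have hψ₀ : ∀ {K : DCoh.D X} (hK : PF K) {E : CochainComplex X.Modules ℤ}, DCoh.IsStrictlyPerfect E →
      ((Q.obj E : DCoh.D X) ≅ K) → ψ₀ (FreeAbelianGroup.of ⟨K, hK⟩) = χ E := fun {K} hK {E} hE e => by
    simp only [ψ₀, FreeAbelianGroup.lift_apply_of]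
    obtain ⟨hG, he⟩ := (exists_strictlyPerfect hX K hK).choose_spec
    exact χ_congr hG hE (he.some ≪≫ e.symm)
  let ψ : KZero.K0tr (PF (X := X)) →+ KZero.K0sub (LF (X := X)) := QuotientAddGroup.lift _ ψ₀ (by
    refine (AddSubgroup.closure_le _).2 ?_
    rintro _ ⟨T, h₁, h₂, h₃, hT, rfl⟩
    rw [SetLike.mem_coe, AddMonoidHom.mem_ker, map_sub, map_sub]
    obtain ⟨E₁, hE₁, ⟨e₁⟩⟩ := exists_strictlyPerfect hX T.obj₁ h₁
    obtain ⟨E₂, hE₂, ⟨e₂⟩⟩ := exists_strictlyPerfect hX T.obj₂ h₂
    obtain ⟨G, g, f, hG, hg, he⟩ := exists_roof hX E₁ E₂ hE₁ hE₂ (e₁.hom ≫ T.mor₁ ≫ e₂.inv)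
    have : IsIso (Q.map g) := (isIso_Q_map_iff_quasiIso (φ := g)).2 hg
    let e₁' : Q.obj G ≅ T.obj₁ := asIso (Q.map g) ≪≫ e₁
    have e := isoTriangleOfIso₁₂ _ T (DerivedCategory.mappingCone_triangle_distinguished f) hT e₁' e₂
      (by
        change Q.map f ≫ e₂.hom = (Q.map g ≫ e₁.hom) ≫ T.mor₁
        rw [← he]
        simp)
    rw [hψ₀ h₂ hE₂ e₂, hψ₀ h₁ hG e₁', hψ₀ h₃ (PerfTri.Cone.isStrictlyPerfect_mappingCone f hG hE₂)
      (Triangle.π₃.mapIso e), χ_cone f hG hE₂]
    abel)
  let φ₀ : FreeAbelianGroup (Subtype (LF (X := X))) →+ KZero.K0tr (PF (X := X)) :=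
    FreeAbelianGroup.lift fun M => cT (sq 0 M.1)
  let φ : KZero.K0sub (LF (X := X)) →+ KZero.K0tr (PF (X := X)) := QuotientAddGroup.lift _ φ₀ (by
    refine (AddSubgroup.closure_le _).2 ?_
    rintro _ ⟨S, h₁, h₂, h₃, hS, rfl⟩
    simp only [SetLike.mem_coe, AddMonoidHom.mem_ker, map_sub, φ₀, FreeAbelianGroup.lift_apply_of]
    have h := cT_add hS.singleTriangle_distinguished (pf_sq h₁ 0) (pf_sq h₂ 0) (pf_sq h₃ 0)
    change cT (sq 0 S.X₂) = cT (sq 0 S.X₁) + cT (sq 0 S.X₃) at h
    rw [h]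
    abel)
  have hφcl : ∀ M : X.Modules, LF M → φ (cS M) = cT (sq 0 M) := fun M hM => by
    simp only [cS, KZero.clSub, dif_pos hM]
    exact FreeAbelianGroup.lift_apply_of _ _
  have hψcl : ∀ {K : DCoh.D X}, PF K → ∀ {E : CochainComplex X.Modules ℤ}, DCoh.IsStrictlyPerfect E →
      ((Q.obj E : DCoh.D X) ≅ K) → ψ (cT K) = χ E := fun {K} hK {E} hE e => by
    simp only [cT, KZero.clTr, dif_pos hK]
    exact hψ₀ hK hE e
  have hψφ : ψ.comp φ = AddMonoidHom.id _ := by
    refine QuotientAddGroup.addMonoidHom_ext _ (FreeAbelianGroup.lift_ext _ _ fun M => ?_)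
    show ψ (φ₀ (.of M)) = QuotientAddGroup.mk (FreeAbelianGroup.of M)
    simp only [φ₀, FreeAbelianGroup.lift_apply_of]
    rw [hψcl (pf_sq M.2 0) (sp_single M.2 0) (KFlat.QCohAcy.singleQIso 0 M.1).symm, χ_single M.2 0,
      Int.negOnePow_zero, Units.val_one, one_smul]
    exact dif_pos M.2
  have key : ∀ (n : ℕ) (E : CochainComplex X.Modules ℤ) (a b : ℤ), b + 1 ≤ a + n → DCoh.VanishesOutside E a b →
      (∀ i, LF (E.X i)) → φ (ψ (cT (Q.obj E))) = cT (Q.obj E) := by
    intro n
    induction n with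
    | zero =>
      intro E a b hn hE _
      have hz : IsZero (Q.obj E : DCoh.D X) := Q.map_isZero
        ((IsZero.iff_id_eq_zero E).2 (HomologicalComplex.hom_ext _ _ fun i => (hE i (by omega)).eq_of_src _ _))
      rw [cT_zero hz, map_zero, map_zero]
    | succ n ih =>
      intro E a b hn hE hEf
      let j : (sc b).obj (E.X b) ⟶ E := HomologicalComplex.mkHomFromSingle (𝟙 (E.X b))
        (fun k hk => (hE k (Or.inr (by simp at hk; omega))).eq_of_tgt _ _)
      have hj : ∀ i, Mono (j.f i) := fun i => by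
        rcases eq_or_ne i b with rfl | h
        · simp only [j, HomologicalComplex.mkHomFromSingle_f]
          infer_instance
        · exact (HomologicalComplex.isZero_single_obj_X (ComplexShape.up ℤ) b _ i h).mono _
      have : Mono j := HomologicalComplex.mono_of_mono_f _ hj
      let S := ShortComplex.mk j (cokernel.π j) (cokernel.condition j)
      have hS : S.ShortExact := { exact := ShortComplex.exact_cokernel j }
      let T := triangleOfSES hS
      have hT : T ∈ distinguishedTriangles := triangleOfSES_distinguished hS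
      let ev := HomologicalComplex.eval X.Modules (ComplexShape.up ℤ)
      have hC : ∀ i, i ≠ b → Nonempty (E.X i ≅ (cokernel j).X i) := fun i hi => by
        have : IsIso ((cokernel.π j).f i) := by
          have hSi := hS.map_of_exact (ev i)
          exact hSi.isIso_g_iff.2 (HomologicalComplex.isZero_single_obj_X (ComplexShape.up ℤ) b _ i hi)
        exact ⟨asIso ((cokernel.π j).f i)⟩
      have hCb : IsZero ((cokernel j).X b) := by
        have hSi := hS.map_of_exact (ev b)
        have : IsIso (j.f b) := by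
          simp only [j, HomologicalComplex.mkHomFromSingle_f]
          infer_instance
        exact hSi.isIso_f_iff.1 this
      have hCv : DCoh.VanishesOutside (cokernel j) a (b - 1) := fun i hi => by
        rcases eq_or_ne i b with rfl | h
        · exact hCb
        · exact (hE i (by omega)).of_iso (hC i h).some.symm
      have hCf : ∀ i, LF ((cokernel j).X i) := fun i => by
        rcases eq_or_ne i b with rfl | h
        · exact PerfModel.isFinLocFree_of_isZero hCb
        · exact KFlat.LocFree.isFinLocFree_of_iso (hC i h).some (hEf i)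
      have h₁ : φ (ψ (cT T.obj₁)) = cT T.obj₁ := by
        have e : sq b (E.X b) ≅ T.obj₁ := KFlat.QCohAcy.singleQIso b (E.X b)
        rw [cT_iso e (pf_sq (hEf b) b), hψcl (pf_sq (hEf b) b) (sp_single (hEf b) b) (KFlat.QCohAcy.singleQIso b (E.X b)).symm,
          χ_single (hEf b) b, map_zsmul, hφcl _ (hEf b), cT_sq (hEf b) b]
      rw [show cT (Q.obj E) = cT T.obj₁ + cT T.obj₃ from cT_add hT (isPerfect_of_sp (sp_single (hEf b) b))
        (isPerfect_of_sp ⟨⟨a, b, hE⟩, hEf⟩) (isPerfect_of_sp ⟨⟨a, b - 1, hCv⟩, hCf⟩), map_add, map_add, h₁,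
        show φ (ψ (cT T.obj₃)) = cT T.obj₃ from ih (cokernel j) a (b - 1) (by omega) hCv hCf]
  have hφψ : φ.comp ψ = AddMonoidHom.id _ := by
    refine QuotientAddGroup.addMonoidHom_ext _ (FreeAbelianGroup.lift_ext _ _ fun K => ?_)
    obtain ⟨E, hE, ⟨e⟩⟩ := exists_strictlyPerfect hX K.1 K.2
    obtain ⟨⟨a, b, hv⟩, hf⟩ := id hE
    have h := key (b + 1 - a).toNat E a b (by omega) hv hf
    rw [← cT_iso e (isPerfect_of_sp hE)] at h
    have hcl : cT K.1 = QuotientAddGroup.mk (FreeAbelianGroup.of K) := dif_pos K.2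
    show φ (ψ (QuotientAddGroup.mk (FreeAbelianGroup.of K))) = QuotientAddGroup.mk (FreeAbelianGroup.of K)
    rw [← hcl]
    exact h
  exact ⟨AddMonoidHom.toAddEquiv φ ψ hψφ hφψ, fun M hM =>
    (hφcl M hM).trans (cT_iso (KFlat.QCohAcy.singleQIso 0 M) (pf_sq hM 0)).symm⟩

end Groth.Agent.PerfRP.K0
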