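import Groth.Agent.PerfRP.Hom
import Mathlib.CategoryTheory.Localization.Predicate
import Mathlib.Algebra.Homology.HomotopyCofiber

/-!
# Perfect objects as a localisation of strictly perfect complexes
-/

set_option autoImplicit false
set_option backward.isDefEq.respectTransparency.types false
set_option backward.isDefEq.respectTransparency false

universe u

open CategoryTheory CategoryTheory.Limits AlgebraicGeometry DerivedCategory Pretriangulated

attribute [local instance] HasDerivedCategory.standard preservesBinaryBiproducts_of_preservesBiproducts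

noncomputable section

namespace Groth.Agent.PerfRP

variable {X : Scheme.{u}}

/-- The category of strictly perfect complexes. -/
abbrev SP (X : Scheme.{u}) := ObjectProperty.FullSubcategory (fun E : CochainComplex X.Modules ℤ => DCoh.IsStrictlyPerfect E)

/-- Its quasi-isomorphisms. -/
abbrev WSP (X : Scheme.{u}) : MorphismProperty (SP X) :=
  (HomologicalComplex.quasiIso X.Modules (ComplexShape.up ℤ)).inverseImage
    (ObjectProperty.ι (fun E : CochainComplex X.Modules ℤ => DCoh.IsStrictlyPerfect E))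

theorem isStrictlyPerfect_biprod {E F : CochainComplex X.Modules ℤ} (hE : DCoh.IsStrictlyPerfect E)
    (hF : DCoh.IsStrictlyPerfect F) : DCoh.IsStrictlyPerfect (E ⊞ F) := by
  obtain ⟨⟨a, b, h⟩, h'⟩ := hE
  obtain ⟨⟨c, d, g⟩, g'⟩ := hF
  exact ⟨⟨min a c, max b d, fun i hi => IsZero.of_iso ((biprod_isZero_iff _ _).2 ⟨h i (by omega), g i (by omega)⟩)
      (HomologicalComplex.biprodXIso E F i)⟩,
    fun i => KFlat.LocFree.isFinLocFree_of_iso (HomologicalComplex.biprodXIso E F i).symm
      (PerfTri.Cone.isFinLocFree_biprod (h' i) (g' i))⟩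

/-- Homotopic maps become equal after inverting the quasi-isomorphisms. -/
theorem map_eq_of_homotopy {E F : SP X} (f g : E ⟶ F) (h : Homotopy f.hom g.hom) :
    (WSP X).Q.map f = (WSP X).Q.map g := by
  let C : SP X := ⟨E.obj.cylinder,
    PerfTri.Cone.isStrictlyPerfect_mappingCone _ E.property (isStrictlyPerfect_biprod E.property E.property)⟩
  let i₀ : E ⟶ C := ObjectProperty.homMk (HomologicalComplex.cylinder.ι₀ E.obj)
  let i₁ : E ⟶ C := ObjectProperty.homMk (HomologicalComplex.cylinder.ι₁ E.obj)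
  let p : C ⟶ E := ObjectProperty.homMk (HomologicalComplex.cylinder.π E.obj)
  let d : C ⟶ F := ObjectProperty.homMk (HomologicalComplex.cylinder.desc f.hom g.hom h)
  have hp : (WSP X) p :=
    (HomologicalComplex.cylinder.homotopyEquiv E.obj (fun j => ⟨j - 1, by simp⟩)).quasiIso_hom
  have := MorphismProperty.Q_inverts (WSP X) p hp
  have hi : (WSP X).Q.map i₀ = (WSP X).Q.map i₁ := by
    rw [← cancel_mono ((WSP X).Q.map p), ← Functor.map_comp, ← Functor.map_comp]
    congr 1
    ext : 1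
    exact (HomologicalComplex.cylinder.ι₀_π E.obj).trans (HomologicalComplex.cylinder.ι₁_π E.obj).symm
  have hf : f = i₀ ≫ d := by
    ext : 1
    exact (HomologicalComplex.cylinder.ι₀_desc f.hom g.hom h).symm
  have hg : g = i₁ ≫ d := by
    ext : 1
    exact (HomologicalComplex.cylinder.ι₁_desc f.hom g.hom h).symm
  rw [hf, hg, Functor.map_comp, Functor.map_comp, hi]

variable [CompactSpace X] [QuasiSeparatedSpace X] (hX : PerfAux.HasResolutionProperty X)

include hX

/-- Maps equal in the derived category become equal after inverting the quasi-isomorphisms. -/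
theorem map_eq_of_Q {E F : SP X} (f g : E ⟶ F) (h : Q.map f.hom = Q.map g.hom) :
    (WSP X).Q.map f = (WSP X).Q.map g := by
  obtain ⟨G, γ, hG, hγ, ⟨H⟩⟩ := exists_homotopy hX E.obj F.obj E.property F.property f.hom g.hom h
  let γ' : (⟨G, hG⟩ : SP X) ⟶ E := ObjectProperty.homMk γ
  have := MorphismProperty.Q_inverts (WSP X) γ' hγ
  rw [← cancel_epi ((WSP X).Q.map γ'), ← Functor.map_comp, ← Functor.map_comp]
  exact map_eq_of_homotopy (γ' ≫ f) (γ' ≫ g) H

theorem exists_roof' (E F : SP X) (α : Q.obj E.obj ⟶ Q.obj F.obj) :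
    ∃ (G : SP X) (g : G ⟶ E) (h : G ⟶ F), WSP X g ∧ Q.map g.hom ≫ α = Q.map h.hom := by
  obtain ⟨G, g, h, hG, hg, e⟩ := exists_roof hX E.obj F.obj E.property F.property α
  exact ⟨⟨G, hG⟩, ObjectProperty.homMk g, ObjectProperty.homMk h, hg, e⟩

omit [CompactSpace X] [QuasiSeparatedSpace X] hX in
theorem isIso_Q {E F : SP X} (g : E ⟶ F) (hg : WSP X g) : IsIso (Q.map g.hom) :=
  (isIso_Q_map_iff_quasiIso (φ := g.hom)).2 hg

/-- Every morphism of the localisation is a roof. -/
theorem roof_Q (A B : (WSP X).Localization) (φ : A ⟶ B) :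
    ∃ (G : SP X) (g : G ⟶ (Localization.Construction.objEquiv (WSP X)).symm A)
      (h : G ⟶ (Localization.Construction.objEquiv (WSP X)).symm B),
      WSP X g ∧ (WSP X).Q.map g ≫ φ = (WSP X).Q.map h := by
  let e := (Localization.Construction.objEquiv (WSP X)).symm
  let P : MorphismProperty (WSP X).Localization := fun A B φ =>
    ∃ (G : SP X) (g : G ⟶ e A) (h : G ⟶ e B), WSP X g ∧ (WSP X).Q.map g ≫ φ = (WSP X).Q.map h
  suffices hP : P = ⊤ by
    have h' : P φ := by rw [hP]; trivial
    exact h'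
  have : P.IsStableUnderComposition := ⟨fun {A B C} φ₁ φ₂ ⟨G₁, g₁, h₁, hg₁, e₁⟩ ⟨G₂, g₂, h₂, hg₂, e₂⟩ => by
    have := isIso_Q g₂ hg₂
    obtain ⟨K, a, b, ha, hab⟩ := exists_roof' hX G₁ G₂ (Q.map h₁.hom ≫ inv (Q.map g₂.hom))
    have hq : (WSP X).Q.map (a ≫ h₁) = (WSP X).Q.map (b ≫ g₂) := map_eq_of_Q hX _ _ (by
      show Q.map (a.hom ≫ h₁.hom) = Q.map (b.hom ≫ g₂.hom)
      rw [Functor.map_comp, Functor.map_comp, ← hab]
      simp)
    refine ⟨K, a ≫ g₁, b ≫ h₂, ?_, ?_⟩
    · show QuasiIso (a.hom ≫ g₁.hom)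
      have : QuasiIso a.hom := ha
      have : QuasiIso g₁.hom := hg₁
      infer_instance
    · rw [Functor.map_comp, Functor.map_comp, ← e₂, Category.assoc, reassoc_of% e₁]
      simp only [Functor.map_comp] at hq
      rw [reassoc_of% hq]⟩
  refine Localization.Construction.morphismProperty_eq_top P (fun A B f => ?_) (fun A B w hw => ?_)
  · exact ⟨A, 𝟙 A, f, (inferInstance : QuasiIso (𝟙 A.obj)), by rw [CategoryTheory.Functor.map_id]; exact Category.id_comp _⟩
  · exact ⟨A, w, 𝟙 A, hw, by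
      rw [CategoryTheory.Functor.map_id]
      exact (Localization.Construction.wIso w hw).hom_inv_id⟩

/-- Perfect objects are the localisation of strictly perfect complexes at the quasi-isomorphisms. -/
theorem isLocalization
    (h : ∀ E : SP X, DCoh.IsPerfect ((ObjectProperty.ι (fun E : CochainComplex X.Modules ℤ => DCoh.IsStrictlyPerfect E) ⋙ Q).obj E)) :
    (ObjectProperty.lift (fun K : DCoh.D X => DCoh.IsPerfect K)
      (ObjectProperty.ι (fun E : CochainComplex X.Modules ℤ => DCoh.IsStrictlyPerfect E) ⋙ Q) h).IsLocalization (WSP X) := by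
  let L := ObjectProperty.lift (fun K : DCoh.D X => DCoh.IsPerfect K)
      (ObjectProperty.ι (fun E : CochainComplex X.Modules ℤ => DCoh.IsStrictlyPerfect E) ⋙ Q) h
  have hinv : (WSP X).IsInvertedBy L := fun E F g hg => by
    have : IsIso ((ObjectProperty.ι (fun K : DCoh.D X => DCoh.IsPerfect K)).map (L.map g)) := isIso_Q g hg
    exact isIso_of_fully_faithful (ObjectProperty.ι (fun K : DCoh.D X => DCoh.IsPerfect K)) (L.map g)
  refine ⟨hinv, ?_⟩
  let Φ := Localization.Construction.lift L hinv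
  let e := (Localization.Construction.objEquiv (WSP X)).symm
  have hΦ : ∀ {E F : SP X} (f : E ⟶ F), Φ.map ((WSP X).Q.map f) = L.map f := fun f => rfl
  have : Φ.Faithful := ⟨fun {A B} φ ψ hφψ => by
    obtain ⟨G, g, k, hg, e₁⟩ := roof_Q hX A B φ
    obtain ⟨G', g', k', hg', e₂⟩ := roof_Q hX A B ψ
    have := isIso_Q g' hg'
    obtain ⟨K, a, b, ha, hab⟩ := exists_roof' hX G G' (Q.map g.hom ≫ inv (Q.map g'.hom))
    have hq : (WSP X).Q.map (a ≫ g) = (WSP X).Q.map (b ≫ g') := map_eq_of_Q hX _ _ (by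
      show Q.map (a.hom ≫ g.hom) = Q.map (b.hom ≫ g'.hom)
      rw [Functor.map_comp, Functor.map_comp, ← hab]
      simp)
    have hk : (WSP X).Q.map (a ≫ k) = (WSP X).Q.map (b ≫ k') := map_eq_of_Q hX _ _ (by
      have h1 : Φ.map ((WSP X).Q.map (a ≫ k)) = Φ.map ((WSP X).Q.map (b ≫ k')) := by
        rw [Functor.map_comp (WSP X).Q, Functor.map_comp (WSP X).Q, ← e₁, ← e₂, ← Category.assoc,
          ← Category.assoc, ← Functor.map_comp (WSP X).Q, ← Functor.map_comp (WSP X).Q, hq, Functor.map_comp Φ,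
          Functor.map_comp Φ, hφψ]
      exact congrArg (fun m => m.hom) h1)
    have hu : WSP X (a ≫ g) := by
      show QuasiIso (a.hom ≫ g.hom)
      have : QuasiIso a.hom := ha
      have : QuasiIso g.hom := hg
      infer_instance
    have := MorphismProperty.Q_inverts (WSP X) _ hu
    rw [← cancel_epi ((WSP X).Q.map (a ≫ g))]
    calc (WSP X).Q.map (a ≫ g) ≫ φ = (WSP X).Q.map (a ≫ k) := by
            rw [Functor.map_comp, Category.assoc, e₁, Functor.map_comp]
      _ = (WSP X).Q.map (b ≫ k') := hk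
      _ = (WSP X).Q.map (b ≫ g') ≫ ψ := by rw [Functor.map_comp, Functor.map_comp, Category.assoc, e₂]
      _ = (WSP X).Q.map (a ≫ g) ≫ ψ := by rw [hq]⟩
  have : Φ.Full := ⟨fun {A B} x => by
    obtain ⟨G, g, k, hg, hgk⟩ := exists_roof' hX (e A) (e B) x.hom
    have := MorphismProperty.Q_inverts (WSP X) g hg
    refine ⟨inv ((WSP X).Q.map g) ≫ (WSP X).Q.map k, ?_⟩
    have := hinv g hg
    rw [← cancel_epi (L.map g), Functor.map_comp, Functor.map_inv, hΦ k]
    have hu : L.map g ≫ inv (Φ.map ((WSP X).Q.map g)) = 𝟙 _ := IsIso.hom_inv_id (Φ.map ((WSP X).Q.map g))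
    refine ((Category.assoc _ _ _).symm.trans ((congrArg (· ≫ L.map k) hu).trans (Category.id_comp _))).trans ?_
    ext : 1
    exact hgk.symm⟩
  have : Φ.EssSurj := ⟨fun K => by
    obtain ⟨E, hE, ⟨i⟩⟩ := exists_strictlyPerfect hX K.obj K.property
    exact ⟨(WSP X).Q.obj ⟨E, hE⟩, ⟨(ObjectProperty.ι (fun K : DCoh.D X => DCoh.IsPerfect K)).preimageIso i⟩⟩⟩
  exact { }

end Groth.Agent.PerfRP
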