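import Groth.Agent.PerfRP.Ample
import Groth.Agent.Props.AmpleTwist
import Groth.Agent.Props.SubExt
import Groth.Agent.ProjTwist.Tensor
import Groth.Agent.ProjTwist.Zero
import Groth.Agent.TwistFlat.Pn
import Groth.Agent.S1071

/-!
# Twists generate on projective space
-/

set_option autoImplicit false
set_option backward.isDefEq.respectTransparency.types false
set_option backward.isDefEq.respectTransparency false

universe u

open CategoryTheory CategoryTheory.Limits AlgebraicGeometry DerivedCategory Pretriangulated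
open Groth.Agent.CohDerLib Groth.Agent.CohDerLib.QC Groth.Agent.KFlat

attribute [local instance] HasDerivedCategory.standard preservesBinaryBiproducts_of_preservesBiproducts

noncomputable section

namespace Groth.Agent.PerfRP.PnGen

section

variable {X : Scheme.{u}}

/-- All shifted maps from `M` to `K` vanish. -/
def Orth (K : DCoh.D X) (M : X.Modules) : Prop := ∀ (i : ℤ) (f : sq i M ⟶ K), f = 0

variable {K : DCoh.D X}

theorem orth_iso {M N : X.Modules} (e : M ≅ N) (h : Orth K M) : Orth K N := fun i f => by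
  rw [← cancel_epi ((singleFunctor X.Modules i).mapIso e).hom, comp_zero]
  exact h i _

theorem orth_zero {M : X.Modules} (h : IsZero M) : Orth K M := fun i f =>
  ((singleFunctor X.Modules i).map_isZero h).eq_of_src _ _

theorem orth₂ {S : ShortComplex X.Modules} (hS : S.ShortExact) (h₁ : Orth K S.X₁) (h₃ : Orth K S.X₃) :
    Orth K S.X₂ := fun i f => by
  let T := triangleOfSES (hS.map_of_exact (sc i))
  let g : T.obj₂ ⟶ K := (QCohAcy.singleQIso i S.X₂).inv ≫ f
  obtain ⟨x, hx⟩ := Triangle.yoneda_exact₂ T (triangleOfSES_distinguished _) g (by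
    exact (cancel_epi (QCohAcy.singleQIso i S.X₁).hom).1 ((h₁ i _).trans comp_zero.symm))
  have : x = 0 := (cancel_epi (QCohAcy.singleQIso i S.X₃).hom).1 ((h₃ i _).trans comp_zero.symm)
  rw [this, comp_zero] at hx
  exact (cancel_epi (QCohAcy.singleQIso i S.X₂).inv).1 (hx.trans comp_zero.symm)

theorem shift_orth {M : X.Modules} (h : Orth K M) (i : ℤ) (x : (Q.obj ((sc i).obj M))⟦(1 : ℤ)⟧ ⟶ K) : x = 0 := by
  let e : sq (i - 1) M ≅ (Q.obj ((sc i).obj M))⟦(1 : ℤ)⟧ :=
    (((DerivedCategory.singleFunctors X.Modules).shiftIso 1 (i - 1) i (by omega)).app M).symm ≪≫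
      (CategoryTheory.shiftFunctor (DCoh.D X) (1 : ℤ)).mapIso (QCohAcy.singleQIso i M)
  exact (cancel_epi e.hom).1 ((h _ _).trans comp_zero.symm)

theorem orth₁ {S : ShortComplex X.Modules} (hS : S.ShortExact) (h₂ : Orth K S.X₂) (h₃ : Orth K S.X₃) :
    Orth K S.X₁ := fun i f => by
  let T := triangleOfSES (hS.map_of_exact (sc (i + 1)))
  have hT : T ∈ distinguishedTriangles := triangleOfSES_distinguished _
  let e : T.obj₁⟦(1 : ℤ)⟧ ≅ sq i S.X₁ :=
    (CategoryTheory.shiftFunctor (DCoh.D X) (1 : ℤ)).mapIso (QCohAcy.singleQIso (i + 1) S.X₁).symm ≪≫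
      ((DerivedCategory.singleFunctors X.Modules).shiftIso 1 i (i + 1) (by omega)).app S.X₁
  have h0 : T.mor₃ ≫ e.hom ≫ f = 0 :=
    (cancel_epi (QCohAcy.singleQIso (i + 1) S.X₃).hom).1 ((h₃ (i + 1) _).trans comp_zero.symm)
  obtain ⟨x, hx⟩ := Triangle.yoneda_exact₂ T.rotate.rotate
    (rot_of_distTriang _ (rot_of_distTriang _ hT)) (e.hom ≫ f) h0
  have hx0 : x = 0 := shift_orth h₂ (i + 1) x
  rw [hx0, comp_zero] at hx
  exact (cancel_epi e.hom).1 (hx.trans comp_zero.symm)

theorem orth₃ {S : ShortComplex X.Modules} (hS : S.ShortExact) (h₁ : Orth K S.X₁) (h₂ : Orth K S.X₂) :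
    Orth K S.X₃ := fun i f => by
  let T := triangleOfSES (hS.map_of_exact (sc i))
  let g : T.obj₃ ⟶ K := (QCohAcy.singleQIso i S.X₃).inv ≫ f
  obtain ⟨x, hx⟩ := Triangle.yoneda_exact₃ T (triangleOfSES_distinguished _) g (by
    exact (cancel_epi (QCohAcy.singleQIso i S.X₂).hom).1 ((h₂ i _).trans comp_zero.symm))
  rw [shift_orth h₁ i x, comp_zero] at hx
  exact (cancel_epi (QCohAcy.singleQIso i S.X₃).inv).1 (hx.trans comp_zero.symm)

theorem orth_biproduct {k : ℕ} (N : Fin k → X.Modules) (h : ∀ j, Orth K (N j)) : Orth K (⨁ N) := fun i f => by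
  rw [← Category.id_comp f, ← CategoryTheory.Functor.map_id, ← biproduct.total, Functor.map_sum,
    Preadditive.sum_comp]
  exact Finset.sum_eq_zero fun j _ => by rw [Functor.map_comp, Category.assoc, h j i ((singleFunctor X.Modules i).map (biproduct.ι N j) ≫ f), comp_zero]

variable [CompactSpace X] [QuasiSeparatedSpace X]

/-- An object orthogonal to all sums of negative powers of an ample family vanishes. -/
theorem isZero_of_orth {ι : Type u} {L : ι → X.Modules} (hL : KSix.IsAmpleFamily L) (K : DCoh.D X)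
    (hK : DCoh.IsQCohD K) (h : ∀ M, KSix.InAddL L M → Orth K M) : IsZero K := by
  have hX := hasResolutionProperty_of_ample hL
  suffices hH : ∀ i, IsZero (DCoh.HD K i) by
    have : IsIso (0 : K ⟶ K) := (DerivedCategory.isIso_iff X.Modules _).2 fun i =>
      ⟨0, (hH i).eq_of_src _ _, (hH i).eq_of_src _ _⟩
    rw [IsZero.iff_id_eq_zero, ← cancel_mono (0 : K ⟶ K)]
    simp
  intro i
  by_contra hne
  let H := DCoh.HD K i
  have hqH : H.IsQuasicoherent := hK i
  obtain ⟨W, hW, s, hs⟩ : ∃ W : X.Opens, IsAffineOpen W ∧ ∃ s : Γ(H, W), s ≠ 0 := by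
    by_contra hc
    push Not at hc
    refine hne ((IsZero.iff_id_eq_zero H).2 (Scheme.Modules.hom_ext _ _ fun O => ?_))
    ext s
    refine TopCat.Sheaf.eq_of_locally_eq' ⟨H.presheaf, H.isSheaf⟩ (fun V : {V : X.affineOpens // V.1 ≤ O} => V.1.1) O
      (fun V => homOfLE V.2) (fun x hx => ?_) _ _ (fun V => (hc _ V.1.2 _).trans (hc _ V.1.2 _).symm)
    obtain ⟨V, hV, hxV, hVU⟩ := TopologicalSpace.Opens.isBasis_iff_nbhd.1 X.isBasis_affineOpens hx
    exact TopologicalSpace.Opens.mem_iSup.2 ⟨⟨⟨V, hV⟩, hVU⟩, hxV⟩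
  obtain ⟨S, hS, t, ht⟩ := Props.SubExt.exists_sub_through_section H W hW s
  let M := Props.SubSheaf.sub S
  obtain ⟨V, π, hV, hπ⟩ := AmpleFam.Basic.exists_epi hL (Props.SubSheaf.isQuasicoherent_sub hS : Coh.IsQCoh M)
    (Props.SubSheaf.isFiniteType_sub hS)
  let v : V ⟶ H := π ≫ Props.SubSheaf.incl S
  have hv : v ≠ 0 := fun h0 => by
    have hi : Props.SubSheaf.incl S = 0 := (cancel_epi π).1 (h0.trans comp_zero.symm)
    rw [hi] at ht
    exact hs ht.symm
  obtain ⟨d, hd⟩ := ExtUniform.exists_bound_top (X := X)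
  let T₀ := (TStructure.t.triangleLTGE i).obj K
  let N := T₀.obj₃
  have hNge : N.IsGE i := inferInstanceAs (((TStructure.t.truncGE i).obj K).IsGE i)
  let T₁ := (TStructure.t.triangleLTGE (i + 1)).obj N
  have hι := fun j (hj : j < i + 1) => isIso_homology_truncLTι N (i + 1) j hj
  have h₁le : T₁.obj₁.IsLE i := by
    have : ((TStructure.t.truncLT (i + 1)).obj N).IsLE (i + 1 - 1) := inferInstance
    simpa [T₁] using this
  have h₁ge : T₁.obj₁.IsGE i := (DerivedCategory.isGE_iff T₁.obj₁ i).2 fun j hj => by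
    have := hι j (by omega)
    exact (isZero_of_isGE N i j hj).of_iso
      (asIso ((DerivedCategory.homologyFunctor X.Modules j).map ((TStructure.t.truncLTι (i + 1)).app N)))
  obtain ⟨B, ⟨eB⟩⟩ := exists_iso_singleFunctor_obj_of_isGE_of_isLE T₁.obj₁ i
  let Hi := DerivedCategory.homologyFunctor X.Modules i
  have : IsIso (Hi.map T₁.mor₁) := hι i (by omega)
  have : IsIso (Hi.map T₀.mor₂) := HComp.isIso_homology_truncGEπ K i i le_rfl
  let eH : H ≅ B := asIso (Hi.map T₀.mor₂) ≪≫ (asIso (Hi.map T₁.mor₁)).symm ≪≫ Hi.mapIso eB ≪≫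
    (singleFunctorCompHomologyFunctorIso X.Modules i).app B
  let x : sq i V ⟶ N := (singleFunctor X.Modules i).map (v ≫ eH.hom) ≫ eB.inv ≫ T₁.mor₁
  -- the obstruction lives below degree `i`
  let G : DCoh.D X := T₀.obj₁⟦(1 : ℤ)⟧
  have hGq : DCoh.IsQCohD G := isQCohD_shift (isQCohD_truncLT hK i) 1
  have hGle : G.IsLE (i - 2) := by
    have : ((TStructure.t.truncLT i).obj K).IsLE (i - 1) := inferInstance
    exact TStructure.t.isLE_shift T₀.obj₁ (i - 1) 1 (i - 2) (by omega)
  let c : ℤ := min (i - 2) (i - d - 1)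
  let g := (TStructure.t.truncGEπ c).app G
  have := isLE_truncGE G c (i - 2)
  have hVf : FlatMod.IsFinLocFree V := AmpleFam.Resolution.isFinLocFree_of_inAddL hL.2.2.1 hV
  obtain ⟨V₁, π₁, hV₁, hπ₁, h₁⟩ := efface hX ((TStructure.t.truncGE c).obj G) (isQCohD_truncGE hGq c) c (i - 2)
    hVf (k := i) (by omega) ((x ≫ T₀.mor₃) ≫ g)
  have hqV₁ : Coh.IsQCoh V₁ := PerfTri.Betti.isQuasicoherent_of_isFinLocFree hV₁
  obtain ⟨V₂, π₂, hV₂, hπ₂⟩ := AmpleFam.Basic.exists_epi hL hqV₁ (@Desc44.SmoothFactor.isFT_of_isFinLocFree _ _ hV₁ hqV₁)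
  let p := (singleFunctor X.Modules i).map (π₂ ≫ π₁)
  have h₂ : (p ≫ x ≫ T₀.mor₃) ≫ g = 0 := by
    simp only [p, Functor.map_comp, Category.assoc] at h₁ ⊢
    rw [h₁, comp_zero]
  obtain ⟨y, hy⟩ := Triangle.coyoneda_exact₂ _ (TStructure.t.triangleLTGE_distinguished c G) (p ≫ x ≫ T₀.mor₃) h₂
  have hy0 : y = 0 := by
    let E := (TStructure.t.truncLT c).obj G
    have hE : E.IsLE (c - 1) := inferInstanceAs (((TStructure.t.truncLT c).obj G).IsLE (c - 1))
    have hs := hd V₂ (AmpleFam.Resolution.isFinLocFree_of_inAddL hL.2.2.1 hV₂) (E⟦i⟧)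
      (isQCohD_shift (isQCohD_truncLT hGq c) i) (c - 1 - i) (TStructure.t.isLE_shift E (c - 1) i (c - 1 - i) (by omega))
      (by omega)
    let e := ((DerivedCategory.singleFunctors X.Modules).shiftIso i 0 i (by omega)).app V₂
    apply (CategoryTheory.shiftFunctor (DCoh.D X) i).map_injective
    rw [Functor.map_zero, ← cancel_epi e.inv, comp_zero]
    exact hs.elim ((QCohAcy.singleQIso 0 V₂).inv ≫ e.inv ≫ y⟦i⟧') 0 |> fun h => by
      rw [← cancel_epi (QCohAcy.singleQIso 0 V₂).inv, comp_zero]; exact h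
  rw [hy0, zero_comp] at hy
  obtain ⟨w, hw⟩ := Triangle.coyoneda_exact₃ T₀ (TStructure.t.triangleLTGE_distinguished i K) (p ≫ x)
    ((Category.assoc _ _ _).trans hy)
  rw [h V₂ hV₂ i w, zero_comp] at hw
  -- apply the cohomology functor
  have h3 := congr(Hi.map $hw)
  simp only [p, x, Functor.map_zero] at h3
  rw [← Category.assoc, ← Functor.map_comp (singleFunctor X.Modules i), Functor.map_comp Hi,
    Functor.map_comp Hi, Preadditive.IsIso.comp_right_eq_zero] at h3
  have hn := (singleFunctorCompHomologyFunctorIso X.Modules i).hom.naturality ((π₂ ≫ π₁) ≫ v ≫ eH.hom)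
  rw [show (singleFunctor X.Modules i ⋙ Hi).map ((π₂ ≫ π₁) ≫ v ≫ eH.hom) = 0 from h3, zero_comp] at hn
  have h4 : (π₂ ≫ π₁) ≫ v ≫ eH.hom = 0 :=
    (cancel_epi ((singleFunctorCompHomologyFunctorIso X.Modules i).hom.app V₂)).1 (hn.symm.trans comp_zero.symm)
  have : Epi (π₂ ≫ π₁) := epi_comp _ _
  exact hv ((cancel_mono eH.hom).1 (((cancel_epi (π₂ ≫ π₁)).1 (h4.trans comp_zero.symm)).trans zero_comp.symm))

end

open Twist in
/-- The twists `O, …, O(-n)` generate. -/
theorem isZero_of_twists (n : ℕ) (R : Type u) [CommRing R] (K : DCoh.D (CohB1.ProjSpace n R))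
    (hK : DCoh.IsQCohD K)
    (h : ∀ (d : ℕ), d ≤ n → ∀ (m : ℤ) (φ : (DCoh.inD (CohB1.ProjSpace n R) (twistProjSpace n R (-(d : ℤ))))⟦m⟧ ⟶ K), φ = 0) :
    IsZero K := by
  have hO : ∀ d : ℕ, d ≤ n → Orth K (twistProjSpace n R (-(d : ℤ))) := fun d hd i f => by
    let e := ((DerivedCategory.singleFunctors (CohB1.ProjSpace n R).Modules).shiftIso (-i) i 0 (by omega)).app
      (twistProjSpace n R (-(d : ℤ)))
    let e' := (CategoryTheory.shiftFunctor (DCoh.D (CohB1.ProjSpace n R)) (-i)).mapIso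
      (QCohAcy.singleQIso 0 (twistProjSpace n R (-(d : ℤ)))).symm ≪≫ e
    exact (cancel_epi e'.hom).1 ((h d hd (-i) _).trans comp_zero.symm)
  have hsum : ∀ (k : ℕ) (a : ℤ), Orth K (twistProjSpace n R a) →
      Orth K (∐ fun _ : Fin k => twistProjSpace n R a) := fun k a ha =>
    orth_iso (biproduct.isoCoproduct _) (orth_biproduct _ fun _ => ha)
  have hstep : ∀ a : ℤ, ((∀ i : ℕ, 1 ≤ i → i ≤ n + 1 → Orth K (twistProjSpace n R (a + i))) →
      Orth K (twistProjSpace n R a)) := by
    intro a ha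
    obtain ⟨C, hC, hCX, hCz⟩ := Groth.Agent.S1071.result n R a
    have hZ : ∀ (m : ℕ) (i : ℤ), 1 ≤ i → (n : ℤ) + 2 ≤ i + m → Orth K (C.cycles i) := fun m => by
      induction m with
      | zero => exact fun i hi hm => orth_zero (IsZero.of_mono (C.iCycles i) (hCz i (Or.inr (by omega))))
      | succ m ih =>
        intro i hi hm
        by_cases hin : (n : ℤ) + 1 < i
        · exact orth_zero (IsZero.of_mono (C.iCycles i) (hCz i (Or.inr hin)))
        obtain ⟨j, rfl⟩ : ∃ j : ℕ, i = j := ⟨i.toNat, by omega⟩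
        let S := ShortComplex.mk (C.iCycles (j : ℤ)) (C.toCycles (j : ℤ) ((j : ℤ) + 1)) (by
          rw [← cancel_mono (C.iCycles ((j : ℤ) + 1))]; simp)
        have hk : IsLimit (KernelFork.ofι S.f S.zero) :=
          KernelFork.IsLimit.ofι' _ _ fun {W} k hk => ⟨C.liftCycles k ((j : ℤ) + 1) (by simp) (by
            have := hk =≫ C.iCycles ((j : ℤ) + 1)
            simpa [S] using this), by simp [S]⟩
        have : Mono S.f := inferInstanceAs (Mono (C.iCycles (j : ℤ)))
        have : Epi S.g := by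
          let S' := ShortComplex.mk (C.toCycles (j : ℤ) ((j : ℤ) + 1)) (C.homologyπ _) (C.toCycles_comp_homologyπ _ _)
          have hS' : S'.Exact := ShortComplex.exact_of_g_is_cokernel _ (C.homologyIsCokernel (j : ℤ) ((j : ℤ) + 1) (by simp))
          exact hS'.epi_f (((HomologicalComplex.exactAt_iff_isZero_homology _ _).1 (hC _)).eq_of_tgt _ _)
        exact orth₁ ({ exact := ShortComplex.exact_of_f_is_kernel _ hk } : S.ShortExact)
          (orth_iso (hCX j (by omega)).some.symm (hsum _ _ (ha j (by omega) (by omega))))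
          (ih ((j : ℤ) + 1) (by omega) (by push_cast at hm; omega))
    have h0 : IsZero (C.cycles 0) := by
      let S' := ShortComplex.mk (C.toCycles (-1) 0) (C.homologyπ 0) (C.toCycles_comp_homologyπ _ _)
      have hS' : S'.Exact := ShortComplex.exact_of_g_is_cokernel _ (C.homologyIsCokernel (-1) 0 (by simp))
      have : Epi (C.toCycles (-1) 0) := hS'.epi_f (((HomologicalComplex.exactAt_iff_isZero_homology _ _).1 (hC _)).eq_of_tgt _ _)
      exact IsZero.of_epi (C.toCycles (-1) 0) (hCz (-1) (Or.inl (by omega)))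
    let S := ShortComplex.mk (C.iCycles 0) (C.toCycles 0 1) (by rw [← cancel_mono (C.iCycles 1)]; simp)
    have hk : IsLimit (KernelFork.ofι S.f S.zero) :=
      KernelFork.IsLimit.ofι' _ _ fun {W} k hk => ⟨C.liftCycles k 1 (by simp) (by
        have := hk =≫ C.iCycles 1
        simpa [S] using this), by simp [S]⟩
    have : Mono S.f := inferInstanceAs (Mono (C.iCycles 0))
    have : Epi S.g := by
      let S' := ShortComplex.mk (C.toCycles 0 1) (C.homologyπ _) (C.toCycles_comp_homologyπ _ _)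
      have hS' : S'.Exact := ShortComplex.exact_of_g_is_cokernel _ (C.homologyIsCokernel 0 1 (by simp))
      exact hS'.epi_f (((HomologicalComplex.exactAt_iff_isZero_homology _ _).1 (hC _)).eq_of_tgt _ _)
    have hX0 : Orth K (C.X 0) := orth₂ ({ exact := ShortComplex.exact_of_f_is_kernel _ hk } : S.ShortExact)
      (orth_zero h0) (hZ (n + 1) 1 le_rfl (by push_cast; omega))
    obtain ⟨e⟩ := hCX 0 (by omega)
    have h2 := orth_iso e hX0
    rw [Nat.cast_zero, add_zero] at h2
    refine orth_iso ?_ h2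
    exact { hom := Sigma.desc fun _ => 𝟙 _
            inv := Sigma.ι (fun _ : Fin ((n + 1).choose 0) => twistProjSpace n R a) ⟨0, by simp⟩
            hom_inv_id := Sigma.hom_ext _ _ fun j => by
              have : j = ⟨0, by simp⟩ := Fin.ext (by
                show j.1 = 0
                have h1 := j.2; have h2 := Nat.choose_zero_right (n + 1); omega)
              subst this; simp
            inv_hom_id := by simp }
  have hall : ∀ k : ℕ, Orth K (twistProjSpace n R (-(k : ℤ))) := fun k => by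
    induction k using Nat.strong_induction_on with
    | _ k ih =>
      by_cases hk : k ≤ n
      · exact hO k hk
      · refine hstep _ fun i h1 h2 => ?_
        rw [show -(k : ℤ) + i = -((k - i : ℕ) : ℤ) by omega]
        exact ih _ (by omega)
  have := Props.AmpleTwist.compactSpace n R
  have hamp : CohB1.IsAmple (twistProjSpace n R 1) :=
    Props.AmpleTwist.isAmple_twist (𝒜 := CohB1.polyGrading n R) (D := 1) Nat.one_pos
      (fun i : ULift.{u} (Fin (n + 1)) => Props.AmpleTwist.X_pow_mem n R 1 i.down)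
      (Props.AmpleTwist.iSup_basicOpen_X_pow n R Nat.one_pos)
  have hqs : QuasiSeparatedSpace ↥(CohB1.ProjSpace n R) := by
    have : (Proj (CohB1.polyGrading n R)).IsSeparated := inferInstance
    exact inferInstanceAs (QuasiSeparatedSpace ↥(Proj (CohB1.polyGrading n R)))
  have hcs : CompactSpace ↥(CohB1.ProjSpace n R) := hamp.2.1
  have hL : KSix.IsAmpleFamily (fun _ : PUnit.{u+1} => twistProjSpace n R 1) :=
    ⟨hamp.2.1, hqs, fun _ => hamp.1, fun x => by
      obtain ⟨m, s, hs⟩ := hamp.2.2 x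
      exact ⟨PUnit.unit, m, s, hs⟩⟩
  refine isZero_of_orth hL K hK fun M hM => ?_
  obtain ⟨r, N, hN, ⟨e⟩⟩ := hM
  refine orth_iso e.symm (orth_biproduct N fun j => ?_)
  obtain ⟨i', k, hk', hφ⟩ := hN j
  let ψ := hφ.some
  obtain ⟨t⟩ := TwistFlat.nonempty_tensorPow_twist (A := R) (n := n) k
  have hinv := fun e : ℤ => ProjTwist.isInvertible_twistProjSpace n R e
  have hMinv : PicF.IsInvertible (N j) := PicLaw.isInvertible_of_tensor_right
    (AmpleLib.isInvertible_tensorPow hamp.1 k)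
    (PicCl.isInvertible_of_iso ψ.symm (AmpleLib.isInvertible_tensorPow hamp.1 0))
  obtain ⟨u1⟩ := ProjTwist.nonempty_twistProjSpace_tensor n R (k : ℤ) (-(k : ℤ))
  obtain ⟨as⟩ := PicLaw.tensor_assoc hMinv (hinv k) (hinv (-(k : ℤ)))
  have z : twistProjSpace n R ((k : ℤ) + -(k : ℤ)) ≅ Coh.structureModule (CohB1.ProjSpace n R) :=
    eqToIso (by rw [add_neg_cancel]; rfl) ≪≫ (ProjTwist.twistZeroIso (CohB1.polyGrading n R)).symm
  refine orth_iso ?_ (hall k)
  exact (KFlat.TensorLocFree.unitTensorIso _).symm ≪≫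
    ProjTwist.tensCongr (ψ.symm ≪≫ ProjTwist.tensCongr (Iso.refl _) t) (Iso.refl _) ≪≫ as ≪≫
    ProjTwist.tensCongr (Iso.refl _) (u1 ≪≫ z) ≪≫ ProjTwist.tensOne _

end Groth.Agent.PerfRP.PnGen
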