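import Groth.Agent.PerfRP.Chain
import Mathlib.Algebra.Homology.HomotopyCategory.MappingCone

/-!
# Strictly perfect models with a map of complexes into a bounded complex
-/

set_option autoImplicit false
set_option backward.isDefEq.respectTransparency.types false
set_option backward.isDefEq.respectTransparency false

universe u

open CategoryTheory CategoryTheory.Limits AlgebraicGeometry DerivedCategory Pretriangulated HomologicalComplex
open ZeroObject
open Groth.Agent.CohDerLib Groth.Agent.CohDerLib.QC Groth.Agent.KFlat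

attribute [local instance] HasDerivedCategory.standard preservesBinaryBiproducts_of_preservesBiproducts

noncomputable section

namespace Groth.Agent.PerfRP

open CochainComplex CochainComplex.HomComplex

variable {X : Scheme.{u}}

theorem good_comp {A B C : DCoh.D X} {f : A ⟶ B} {g : B ⟶ C} {k : ℤ} (hf : Good f k) (hg : Good g k) :
    Good (f ≫ g) k := by
  refine ⟨fun i hi => ?_, ?_⟩
  · have := hf.1 i hi
    have := hg.1 i hi
    rw [Functor.map_comp]; infer_instance
  · have := hf.2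
    have := hg.2
    rw [Functor.map_comp]; exact epi_comp _ _

theorem good_of_fibre (T : Triangle (DCoh.D X)) (hT : T ∈ distinguishedTriangles) (k : ℤ) [T.obj₁.IsLE k] :
    Good T.mor₂ k := by
  have hepi : ∀ i, k ≤ i → Epi ((DerivedCategory.homologyFunctor X.Modules i).map T.mor₂) := fun i hi =>
    (HomologySequence.exact₃ T hT i (i + 1) rfl).epi_f
      ((isZero_of_isLE T.obj₁ k (i + 1) (by omega)).eq_of_tgt _ _)
  refine ⟨fun i hi => ?_, hepi k le_rfl⟩
  have : Mono ((DerivedCategory.homologyFunctor X.Modules i).map T.mor₂) :=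
    (HomologySequence.exact₂ T hT i).mono_g ((isZero_of_isLE T.obj₁ k i hi).eq_of_src _ _)
  have := hepi i hi.le
  exact isIso_of_mono_of_epi _

theorem fibre_of_good (T : Triangle (DCoh.D X)) (hT : T ∈ distinguishedTriangles) (k : ℤ)
    (h : Good T.mor₂ k) : T.obj₁.IsLE k := by
  refine (DerivedCategory.isLE_iff T.obj₁ k).2 fun i hi => ?_
  refine (HomologySequence.exact₁ T hT (i - 1) i (by omega)).isZero_X₂ ?_ ?_
  · have : Epi ((DerivedCategory.homologyFunctor X.Modules (i - 1)).map T.mor₂) := by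
      rcases (show i - 1 = k ∨ k < i - 1 by omega) with h' | h'
      · rw [h']; exact h.2
      · have := h.1 _ h'; infer_instance
    rw [← cancel_epi ((DerivedCategory.homologyFunctor X.Modules (i - 1)).map T.mor₂), comp_zero]
    exact HomologySequence.comp_δ T hT (i - 1) i (by omega)
  · have := h.1 i hi
    rw [← cancel_mono ((DerivedCategory.homologyFunctor X.Modules i).map T.mor₂), zero_comp, ← Functor.map_comp,
      comp_distTriang_mor_zero₁₂ T hT, Functor.map_zero]

/-- Attaching a module along a map into the fibre. -/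
theorem attach {S P : CochainComplex X.Modules ℤ} {C L : DCoh.D X} {δ : C ⟶ Q.obj P} {g : Q.obj P ⟶ L}
    {h : L ⟶ C⟦(1 : ℤ)⟧} (hT : Triangle.mk δ g h ∈ distinguishedTriangles) (k : ℤ) [C.IsLE k]
    (s : S ⟶ P) (u : Q.obj S ⟶ C) (hs : Q.map s = u ≫ δ) (hle : (Q.obj S).IsLE k)
    (hu : Epi ((DerivedCategory.homologyFunctor X.Modules k).map u)) :
    ∃ g₁ : Q.obj (mappingCone s) ⟶ L, Q.map (mappingCone.inr s) ≫ g₁ = g ∧ Good g₁ (k - 1) ∧
      (IsIso u → IsIso g₁) := by
  obtain ⟨C', v₁₂, w₁₂, h₁₂⟩ := distinguished_cocone_triangle u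
  let T₁₃ := Q.mapTriangle.obj (mappingCone.triangle s)
  have h₁₃ : Triangle.mk (u ≫ δ) T₁₃.mor₂ T₁₃.mor₃ ∈ distinguishedTriangles := by
    refine isomorphic_distinguished _ (mappingCone_triangle_distinguished s) _
      (Triangle.isoMk _ _ (Iso.refl _) (Iso.refl _) (Iso.refl _) ?_ ?_ ?_)
    · show (u ≫ δ) ≫ 𝟙 _ = 𝟙 _ ≫ Q.map s
      rw [hs]; simp
    · simp [T₁₃]
    · simp [T₁₃]
  let O := Triangulated.someOctahedron rfl h₁₂ hT h₁₃
  let T₁₂ := Triangle.mk u v₁₂ w₁₂
  refine ⟨O.m₃, O.comm₃, ?_, ?_⟩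
  · have : C'.IsLE (k - 1) := (DerivedCategory.isLE_iff C' (k - 1)).2 fun i hi => by
      refine (HomologySequence.exact₃ T₁₂ h₁₂ i (i + 1) rfl).isZero_X₂ ?_
        ((isZero_of_isLE (Q.obj S) k (i + 1) (by omega)).eq_of_tgt _ _)
      rcases eq_or_ne i k with rfl | h'
      · rw [← cancel_epi ((DerivedCategory.homologyFunctor X.Modules i).map u), comp_zero, ← Functor.map_comp]
        exact (congrArg _ (comp_distTriang_mor_zero₁₂ T₁₂ h₁₂)).trans (Functor.map_zero _ _ _)
      · exact (isZero_of_isLE C k i (by omega)).eq_of_src _ _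
    exact @good_of_fibre X O.triangle O.mem (k - 1) this
  · intro hiso
    exact (Triangle.isZero₁_iff_isIso₂ O.triangle O.mem).1 (Triangle.isZero₃_of_isIso₁ T₁₂ h₁₂ hiso)

/-- Refining the attached module preserves the comparison. -/
theorem good_refine {P : CochainComplex X.Modules ℤ} {k : ℤ} {V V' : X.Modules} (π : V' ⟶ V) [Epi π]
    (s : (sc k).obj V ⟶ P) (s' : (sc k).obj V' ⟶ P) (hs : s' ≫ 𝟙 P = (sc k).map π ≫ s) :
    Good (Q.map (mappingCone.map s' s ((sc k).map π) (𝟙 P) hs)) (k - 1) := by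
  let μ := mappingCone.map s' s ((sc k).map π) (𝟙 P) hs
  have hf : ∀ i, Epi (((sc k).map π).f i) := fun i => by
    rcases eq_or_ne i k with rfl | h
    · rw [single_map_f_self]; infer_instance
    · exact (isZero_single_obj_X (ComplexShape.up ℤ) k V i h).epi _
  have hepi : ∀ i, Epi (μ.f i) := fun i => Preadditive.epi_of_cancel_zero _ fun {Z} q hq => by
    rw [mappingCone.ext_from_iff s (i + 1) i rfl]
    constructor
    · have := hf (i + 1)
      rw [comp_zero, ← cancel_epi (((sc k).map π).f (i + 1)), comp_zero]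
      have := (mappingCone.inl s').v (i + 1) i (by omega) ≫= hq
      simpa [μ, mappingCone.map] using this
    · have := (mappingCone.inr s').f i ≫= hq
      simpa [μ, mappingCone.map] using this
  have : Epi μ := HomologicalComplex.epi_of_epi_f _ hepi
  let S := ShortComplex.mk (kernel.ι μ) μ (kernel.condition μ)
  have hS : S.ShortExact := { exact := ShortComplex.exact_of_f_is_kernel _ (kernelIsKernel μ) }
  have hK : ∀ i, i ≠ k - 1 → IsZero ((kernel μ).X i) := fun i hi => by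
    have : Mono (μ.f i) := Preadditive.mono_of_cancel_zero _ fun {Z} q hq => by
      rw [mappingCone.ext_to_iff s' i (i + 1) rfl]
      constructor
      · exact (isZero_single_obj_X (ComplexShape.up ℤ) k V' (i + 1) (by omega)).eq_of_tgt _ _
      · have := hq =≫ (mappingCone.snd s).v i i (add_zero i)
        simpa [μ, mappingCone.map, mappingCone.desc_f _ _ _ _ i (i + 1) rfl] using this
    have : Mono ((kernel.ι μ).f i) := inferInstanceAs (Mono ((HomologicalComplex.eval X.Modules _ i).map (kernel.ι μ)))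
    refine IsZero.of_mono_eq_zero ((kernel.ι μ).f i) ?_
    rw [← cancel_mono (μ.f i), zero_comp]
    exact congr_hom (kernel.condition μ) i
  have hz : ∀ i, i ≠ k - 1 → IsZero ((kernel μ).homology i) := fun i hi =>
    ShortComplex.isZero_homology_of_isZero_X₂ _ (hK i hi)
  have hepiH : ∀ i, k - 1 ≤ i → Epi (homologyMap μ i) := fun i hi =>
    (hS.homology_exact₃ i (i + 1) rfl).epi_f ((hz (i + 1) (by omega)).eq_of_tgt _ _)
  refine ⟨fun i hi => ?_, ?_⟩
  · have : Mono (homologyMap μ i) :=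
      (hS.homology_exact₂ i).mono_g ((hz i (by omega)).eq_of_src _ _)
    have := hepiH i hi.le
    exact (NatIso.isIso_map_iff (homologyFunctorFactors X.Modules i) μ).2 (isIso_of_mono_of_epi (homologyMap μ i))
  · exact (MorphismProperty.epimorphisms X.Modules).arrow_mk_iso_iff
      (((Functor.mapArrowFunctor _ _).mapIso (homologyFunctorFactors X.Modules (k - 1))).app
        (Arrow.mk μ)) |>.2 (hepiH (k - 1) le_rfl)

/-- The shift comparison of single modules. -/
abbrev ι1 (k : ℤ) : sc k ⋙ shiftFunctor (CochainComplex X.Modules ℤ) (1 : ℤ) ≅ sc (k - 1) :=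
  (CochainComplex.singleFunctors X.Modules).shiftIso 1 (k - 1) k (by omega)

variable [CompactSpace X] [QuasiSeparatedSpace X]

/-- A perfect object mapping to a bounded quasi-coherent complex has a strictly perfect model mapping to
it by a map of complexes. -/
theorem exists_model_over (hX : PerfAux.HasResolutionProperty X) (L : DCoh.D X) (hL : DCoh.IsPerfect L)
    (K : CochainComplex X.Modules ℤ) (hK : ∀ i, Coh.IsQCoh (K.X i)) (a : ℤ)
    (ha : ∀ i, i < a → IsZero (K.X i)) (lam : L ⟶ Q.obj K) :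
    ∃ (G : CochainComplex X.Modules ℤ) (g : Q.obj G ⟶ L) (φ : G ⟶ K),
      DCoh.IsStrictlyPerfect G ∧ IsIso g ∧ Q.map φ = g ≫ lam := by
  obtain ⟨p₀, q, G₀, hG, hGf, ⟨eG⟩⟩ := FMBound.Perfect.exists_flatAmp hL
  obtain ⟨p, hp, hpa⟩ : ∃ p : ℤ, p ≤ p₀ ∧ p < a := ⟨min p₀ (a - 1), min_le_left _ _, by omega⟩
  obtain ⟨b, hb, hqb⟩ : ∃ b : ℤ, p ≤ b ∧ q ≤ b := ⟨max p q, le_max_left _ _, le_max_right _ _⟩
  have hpc : ∀ m, DCoh.IsPseudoCoherentD m L := fun m => PCohD.pc_of_perfect hL m
  have hLq : DCoh.IsQCohD L := FlatProper.isQCohD_of_pc hpc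
  have hHz : ∀ i, (i < p ∨ b < i) → IsZero (DCoh.HD L i) := fun i hi =>
    IsZero.of_iso ((PCohD.isZero_homology_Q G₀ i).mpr
        (ShortComplex.isZero_homology_of_isZero_X₂ _ (hG i (by omega))))
      ((DerivedCategory.homologyFunctor X.Modules i).mapIso eG.symm)
  have : L.IsGE p := (DerivedCategory.isGE_iff L p).2 fun i hi => hHz i (Or.inl hi)
  have key : ∀ n : ℕ, p + n ≤ b + 1 → ∀ (P : CochainComplex X.Modules ℤ) (g : Q.obj P ⟶ L) (φ : P ⟶ K),
      DCoh.VanishesOutside P (p + n) b → (∀ i, FlatMod.IsFinLocFree (P.X i)) → Good g (p + n) →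
      Q.map φ = g ≫ lam →
      ∃ (G : CochainComplex X.Modules ℤ) (g : Q.obj G ⟶ L) (φ : G ⟶ K),
        DCoh.IsStrictlyPerfect G ∧ IsIso g ∧ Q.map φ = g ≫ lam := by
    intro n
    induction n with
    | zero =>
      intro hn P g φ hP hPf hg hφ
      simp only [Nat.cast_zero, add_zero] at hn hP hg
      obtain ⟨C, δ, h, hT⟩ := distinguished_cocone_triangle₁ g
      have hC : C.IsLE p := fibre_of_good (Triangle.mk δ g h) hT p hg
      let T := (Triangle.mk δ g h).rotate
      have hT' : T ∈ distinguishedTriangles := rot_of_distTriang _ hT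
      have hfl₁ : DCoh.HasFlatAmplitudeIn (p - 1) b T.obj₃ :=
        PerfModel.flatAmp₃ T hT' (by omega)
          ⟨P, fun i hi => hP i (by omega), fun i => PCohD.PerfTor.isFlat_of_isFinLocFree (hPf i), ⟨Iso.refl _⟩⟩
          (flatAmp_mono (by omega) hqb ⟨G₀, hG, hGf, ⟨eG⟩⟩)
      have hpc₃ : ∀ m, DCoh.IsPseudoCoherentD m T.obj₃ := fun m =>
        PCohD.pc₃ (m := m) T hT' (PCohD.pc_of_isAp ⟨P, (Iso.refl (Q.obj P)).hom, ⟨⟨p, b, hP⟩, hPf⟩,
          @KFlat.TildePC.appr_of_isIso _ _ _ _ _ _ _ _ (Iso.isIso_hom (Iso.refl _))⟩) (hpc m)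
      have hle₃ : T.obj₃.IsLE (p - 1) := TStructure.t.isLE_shift C p 1 (p - 1) (by omega)
      obtain ⟨G', hG', hGf', ⟨e'⟩⟩ :=
        PerfModel.flatAmp_shrink (b := b) le_rfl (by omega) hfl₁ (hpc₃ _)
          (fun i hi => isZero_of_isLE T.obj₃ (p - 1) i hi)
      have hge₃ : T.obj₃.IsGE (p - 1) := (DerivedCategory.isGE_iff _ _).2 fun i hi =>
        IsZero.of_iso ((PCohD.isZero_homology_Q G' i).mpr
            (ShortComplex.isZero_homology_of_isZero_X₂ _ (hG' i (Or.inl hi))))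
          ((DerivedCategory.homologyFunctor X.Modules i).mapIso e'.symm)
      obtain ⟨A, ⟨eA⟩⟩ := exists_iso_singleFunctor_obj_of_isGE_of_isLE T.obj₃ (p - 1)
      obtain ⟨J, ⟨eJ⟩⟩ : ∃ J, Nonempty (Q.obj J ≅ T.obj₃) := ⟨_, ⟨Q.objObjPreimageIso _⟩⟩
      have hA : FlatMod.IsFinLocFree A :=
        LocFree.isFinLocFree_of_iso
          (((homologyFunctorFactors X.Modules (p - 1)).app J).symm ≪≫
            (DerivedCategory.homologyFunctor X.Modules (p - 1)).mapIso (eJ ≪≫ eA) ≪≫
            (singleFunctorCompHomologyFunctorIso X.Modules (p - 1)).app A)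
          (PerfModel.isFinLocFree_homology ⟨G', hG', hGf', ⟨e' ≪≫ eJ.symm⟩⟩ (PCohD.pc_of_iso eJ.symm (hpc₃ _)))
      let eC : sq p A ≅ C :=
        (CategoryTheory.shiftFunctor (DCoh.D X) (1 : ℤ)).preimageIso
          (((DerivedCategory.singleFunctors X.Modules).shiftIso 1 (p - 1) p (by omega)).app A ≪≫ eA.symm)
      let u : Q.obj ((sc p).obj A) ⟶ C := (QCohAcy.singleQIso p A).inv ≫ eC.hom
      obtain ⟨s, hs⟩ := exists_chain_map P p (fun i hi => hP i (Or.inl hi)) A (u ≫ δ)
      obtain ⟨g₁, hg₁, -, hiso⟩ := attach hT p s u hs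
        (TStructure.t.isLE_of_iso (QCohAcy.singleQIso p A) p) inferInstance
      have : IsIso g₁ := hiso inferInstance
      have h0 : s ≫ φ = 0 := from_single_hom_ext ((ha p (by omega)).eq_of_tgt _ _)
      let φ₁ : mappingCone s ⟶ K := mappingCone.desc s 0 φ (by simp [h0])
      refine ⟨mappingCone s, g₁, φ₁, PerfTri.Cone.isStrictlyPerfect_mappingCone s
        ⟨⟨p, p, fun i hi => isZero_single_obj_X (ComplexShape.up ℤ) p A i (by omega)⟩,
          PerfModel.isFinLocFree_single hA p⟩ ⟨⟨p, b, hP⟩, hPf⟩, inferInstance, ?_⟩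
      rw [← sub_eq_zero]
      let T₁₃ := Q.mapTriangle.obj (mappingCone.triangle s)
      obtain ⟨y, hy⟩ := Triangle.yoneda_exact₃ T₁₃ (mappingCone_triangle_distinguished s) (Q.map φ₁ - g₁ ≫ lam)
        (by
          show Q.map (mappingCone.inr s) ≫ _ = 0
          rw [Preadditive.comp_sub, ← Functor.map_comp, mappingCone.inr_desc, reassoc_of% hg₁, hφ, sub_self])
      have h1 : (Q.obj ((sc p).obj A)).IsLE p := TStructure.t.isLE_of_iso (QCohAcy.singleQIso p A) p
      have h2 : ((Q.obj ((sc p).obj A))⟦(1 : ℤ)⟧).IsLE (p - 1) := TStructure.t.isLE_shift _ p 1 (p - 1) (by omega)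
      have h3 : (Q.obj K).IsGE a := (DerivedCategory.isGE_iff _ a).2 fun i hi => (PCohD.isZero_homology_Q K i).mpr
        (ShortComplex.isZero_homology_of_isZero_X₂ _ (ha i hi))
      have hy0 : y = 0 := @CategoryTheory.Triangulated.TStructure.zero (DCoh.D X) _ _ _ _ _ _ TStructure.t
        _ _ y (p - 1) a (by omega) h2 h3
      rw [hy, hy0, comp_zero]
    | succ n ih =>
      intro hn P g φ hP hPf hg hφ
      obtain ⟨k, hk⟩ : ∃ k : ℤ, k = p + ((n + 1 : ℕ) : ℤ) := ⟨_, rfl⟩
      rw [← hk] at hn hP hg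
      obtain ⟨C, δ, h, hT⟩ := distinguished_cocone_triangle₁ g
      let T := Triangle.mk δ g h
      have hC : C.IsLE k := fibre_of_good T hT k hg
      have hPq : DCoh.IsQCohD (Q.obj P : DCoh.D X) :=
        QCohModel.isQCohD_Q_of_terms P fun i => PerfTri.Betti.isQuasicoherent_of_isFinLocFree (hPf i)
      have hCq : DCoh.IsQCohD C := PCohD.isQCohD_obj₃ T.invRotate.invRotate
        (inv_rot_of_distTriang _ (inv_rot_of_distTriang _ hT)) (isQCohD_shift hPq _) (isQCohD_shift hLq _)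
      have hCpc : DCoh.IsPseudoCoherentD k C := by
        rw [show k = k - 1 + 1 by omega]
        exact PCohD.pc₁ (m := k - 1) T hT
          (PCohD.pc_of_isAp ⟨P, (Iso.refl (Q.obj P)).hom, ⟨⟨_, _, hP⟩, hPf⟩,
            @KFlat.TildePC.appr_of_isIso _ _ _ _ _ _ _ _ (Iso.isIso_hom (Iso.refl _))⟩) (hpc _)
      have hCge : C.IsGE p := (DerivedCategory.isGE_iff C p).2 fun i hi =>
        (HomologySequence.exact₁ T hT (i - 1) i (by omega)).isZero_X₂
          ((isZero_of_isGE L p (i - 1) (by omega)).eq_of_src _ _)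
          (((PCohD.isZero_homology_Q P i).mpr
            (ShortComplex.isZero_homology_of_isZero_X₂ _ (hP i (Or.inl (by omega))))).eq_of_tgt _ _)
      obtain ⟨V, ψ, hV, hψ⟩ := exists_epi_top hX C hCq p k
        (PCohD.FTFP.isFT_homology hCpc fun i hi => isZero_of_isLE C k i hi)
      let u₀ : Q.obj ((sc k).obj V) ⟶ C := (QCohAcy.singleQIso k V).inv ≫ ψ
      obtain ⟨s₀, hs₀⟩ := exists_chain_map P k (fun i hi => hP i (Or.inl hi)) V (u₀ ≫ δ)
      have hδg : δ ≫ g = 0 := comp_distTriang_mor_zero₁₂ T hT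
      obtain ⟨V₁, π₁, hV₁, hπ₁, ⟨H⟩⟩ := refine_null hX K hK k hV (s₀ ≫ φ) (by
        rw [Functor.map_comp, hs₀, hφ, Category.assoc, reassoc_of% hδg,
          zero_comp, comp_zero])
      let s₁ : (sc k).obj V₁ ⟶ P := (sc k).map π₁ ≫ s₀
      let u₁ : Q.obj ((sc k).obj V₁) ⟶ C := Q.map ((sc k).map π₁) ≫ u₀
      have hu₁ : Epi ((DerivedCategory.homologyFunctor X.Modules k).map u₁) := by
        rw [Functor.map_comp, Functor.map_comp]
        have : Epi ((DerivedCategory.homologyFunctor X.Modules k).map (Q.map ((sc k).map π₁))) :=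
          (MorphismProperty.epimorphisms X.Modules).arrow_mk_iso_iff
            (((Functor.mapArrowFunctor _ _).mapIso (Functor.isoWhiskerLeft (sc k) (homologyFunctorFactors X.Modules k) ≪≫
                homologyFunctorSingleIso X.Modules (ComplexShape.up ℤ) k)).app (Arrow.mk π₁)) |>.2 hπ₁
        exact epi_comp _ _
      obtain ⟨g₁, hg₁, hgood, -⟩ := attach hT k s₁ u₁
        (by simp only [s₁, u₁, Functor.map_comp, hs₀, Category.assoc])
        (TStructure.t.isLE_of_iso (QCohAcy.singleQIso k V₁) k) hu₁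
      let φ₁ : mappingCone s₁ ⟶ K := mappingCone.desc s₁
        (Cochain.ofHomotopy ((Homotopy.ofEq (Category.assoc _ _ _)).trans H)) φ
        (by simp [δ_ofHomotopy, s₁])
      let T₁₃ := Q.mapTriangle.obj (mappingCone.triangle s₁)
      obtain ⟨y, hy⟩ := Triangle.yoneda_exact₃ T₁₃ (mappingCone_triangle_distinguished s₁) (Q.map φ₁ - g₁ ≫ lam)
        (by
          show Q.map (mappingCone.inr s₁) ≫ _ = 0
          rw [Preadditive.comp_sub, ← Functor.map_comp, mappingCone.inr_desc, reassoc_of% hg₁, hφ, sub_self])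
      let y₀ : Q.obj (((sc k).obj V₁)⟦(1 : ℤ)⟧) ⟶ Q.obj K := (Q.commShiftIso (1 : ℤ)).hom.app _ ≫ y
      have hy₀' : Q.map φ₁ - g₁ ≫ lam = Q.map (mappingCone.triangle s₁).mor₃ ≫ y₀ :=
        hy.trans (Category.assoc _ _ _)
      obtain ⟨V₂, π₂, z, hV₂, hπ₂, hz⟩ := refine_map hX K hK a ha (k - 1) hV₁
        (Q.map ((ι1 k).inv.app V₁) ≫ y₀)
      let s₂ : (sc k).obj V₂ ⟶ P := (sc k).map π₂ ≫ s₁
      let μ := mappingCone.map s₂ s₁ ((sc k).map π₂) (𝟙 P) (Category.comp_id _)
      let m₁ : mappingCone s₁ ⟶ ((sc k).obj V₁)⟦(1 : ℤ)⟧ := (mappingCone.triangle s₁).mor₃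
      let m₂ : mappingCone s₂ ⟶ ((sc k).obj V₂)⟦(1 : ℤ)⟧ := (mappingCone.triangle s₂).mor₃
      let φ₂ : mappingCone s₂ ⟶ K := μ ≫ φ₁ - m₂ ≫ (ι1 k).hom.app V₂ ≫ z
      have hS₂ : DCoh.IsStrictlyPerfect ((sc k).obj V₂) :=
        ⟨⟨k, k, fun i hi => isZero_single_obj_X (ComplexShape.up ℤ) k V₂ i (by omega)⟩,
          PerfModel.isFinLocFree_single hV₂ k⟩
      refine ih (by omega) (mappingCone s₂) (Q.map μ ≫ g₁) φ₂
        (fun i hi => (mappingCone.isZero_X_iff s₂ i).mpr
          ⟨isZero_single_obj_X (ComplexShape.up ℤ) k V₂ (i + 1) (by omega), hP i (by omega)⟩)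
        (PerfTri.Cone.isStrictlyPerfect_mappingCone s₂ hS₂ ⟨⟨k, b, hP⟩, hPf⟩).2
        (by
          rw [show p + (n : ℤ) = k - 1 by omega]
          exact good_comp (good_refine π₂ s₁ s₂ (Category.comp_id _)) hgood) ?_
      have hμ : m₂ ≫ ((sc k).map π₂)⟦(1 : ℤ)⟧' = μ ≫ m₁ :=
        (mappingCone.triangleMap s₂ s₁ ((sc k).map π₂) (𝟙 P) (Category.comp_id _)).comm₃
      have hy₀ : Q.map φ₁ - g₁ ≫ lam = Q.map m₁ ≫ y₀ := hy₀'
      have hι : (ι1 k).hom.app V₂ ≫ (sc (k - 1)).map π₂ = ((sc k).map π₂)⟦(1 : ℤ)⟧' ≫ (ι1 k).hom.app V₁ :=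
        ((ι1 k).hom.naturality π₂).symm
      simp only [φ₂, Functor.map_sub, Functor.map_comp, hz, Category.assoc]
      rw [← Q.map_comp_assoc ((ι1 k).hom.app V₂), hι, Q.map_comp_assoc, ← Q.map_comp_assoc ((ι1 k).hom.app V₁),
        Iso.hom_inv_id_app, CategoryTheory.Functor.map_id, Category.id_comp, ← Q.map_comp_assoc, hμ,
        Q.map_comp_assoc, ← hy₀, Preadditive.comp_sub, sub_sub_cancel]
  obtain ⟨n, hn⟩ : ∃ n : ℕ, p + n = b + 1 := ⟨(b + 1 - p).toNat, by omega⟩
  refine key n hn.le 0 0 0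
    (fun i _ => (HomologicalComplex.eval X.Modules (ComplexShape.up ℤ) i).map_isZero (isZero_zero _))
    PCohD.isStrictlyPerfect_zero.2 ?_ (by simp)
  rw [hn]
  exact ⟨fun i hi => isIso_of_source_target_iso_zero _
      ((DerivedCategory.homologyFunctor X.Modules i).map_isZero (Q.map_isZero (isZero_zero _))).isoZero
      (hHz i (Or.inr (by omega))).isoZero,
    (hHz (b + 1) (Or.inr (by omega))).epi _⟩

end Groth.Agent.PerfRP
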