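import Groth.Agent.PerfRP.Efface
import Groth.Agent.PerfModel.Main
import Groth.Agent.KFlat.FlatProperPC
import Mathlib.CategoryTheory.Triangulated.Triangulated

/-!
# Perfect objects are strictly perfect under the resolution property
-/

set_option autoImplicit false
set_option backward.isDefEq.respectTransparency.types false
set_option backward.isDefEq.respectTransparency false

universe u

open CategoryTheory CategoryTheory.Limits AlgebraicGeometry DerivedCategory Pretriangulated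
open ZeroObject
open Groth.Agent.CohDerLib Groth.Agent.CohDerLib.QC Groth.Agent.KFlat

attribute [local instance] HasDerivedCategory.standard preservesBinaryBiproducts_of_preservesBiproducts

noncomputable section

namespace Groth.Agent.PerfRP

variable {X : Scheme.{u}}

/-- A top cohomology of finite type is covered by a locally free module, in the derived category. -/
theorem exists_epi_top [CompactSpace X] [QuasiSeparatedSpace X] (hX : PerfAux.HasResolutionProperty X)
    (C : DCoh.D X) (hC : DCoh.IsQCohD C) (a k : ℤ) [C.IsGE a] [C.IsLE k]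
    (hft : CohB1.IsFT (DCoh.HD C k)) :
    ∃ (V : X.Modules) (ψ : sq k V ⟶ C), FlatMod.IsFinLocFree V ∧
      Epi ((homologyFunctor X.Modules k).map ψ) := by
  let H := homologyFunctor X.Modules k
  let T := (TStructure.t.triangleLTGE k).obj C
  have hT : T ∈ distinguishedTriangles := TStructure.t.triangleLTGE_distinguished k C
  have hBle : T.obj₃.IsLE k := isLE_truncGE C k k
  have hBge : T.obj₃.IsGE k := inferInstanceAs (((TStructure.t.truncGE k).obj C).IsGE k)
  obtain ⟨B, ⟨e⟩⟩ := exists_iso_singleFunctor_obj_of_isGE_of_isLE T.obj₃ k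
  have hg : IsIso (H.map T.mor₂) := HComp.isIso_homology_truncGEπ C k k le_rfl
  let eB : DCoh.HD C k ≅ B := asIso (H.map T.mor₂) ≪≫ H.mapIso e ≪≫
    (singleFunctorCompHomologyFunctorIso X.Modules k).app B
  have hB : Coh.IsQCoh B := qcoh_iso eB (hC k)
  have : (DCoh.HD C k).IsQuasicoherent := hC k
  obtain ⟨V₀, π₀, hV₀, hπ₀⟩ := hX B hB (Props.SubExt.isFiniteType_of_iso (Z := X) (hA := hft) eB)
  have hAle : T.obj₁.IsLE (k - 1) := inferInstanceAs (((TStructure.t.truncLT k).obj C).IsLE (k - 1))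
  have hAge : T.obj₁.IsGE a := (isGE_iff T.obj₁ a).2 fun i hi => by
    by_cases h : i < k
    · have := isIso_homology_truncLTι C k i h
      exact (isZero_of_isGE C a i hi).of_iso
        (asIso ((homologyFunctor X.Modules i).map ((TStructure.t.truncLTι k).app C)))
    · exact isZero_of_isLE T.obj₁ (k - 1) i (by omega)
  let G : DCoh.D X := T.obj₁⟦(1 : ℤ)⟧
  have : G.IsLE (k - 2) := TStructure.t.isLE_shift T.obj₁ (k - 1) 1 (k - 2) (by omega)
  have : G.IsGE (a - 1) := TStructure.t.isGE_shift T.obj₁ a 1 (a - 1) (by omega)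
  obtain ⟨V, π, hV, hπ, h0⟩ := efface hX G (isQCohD_shift (isQCohD_truncLT hC k) 1) (a - 1) (k - 2)
    hV₀ (k := k) (by omega) ((singleFunctor X.Modules k).map π₀ ≫ e.inv ≫ T.mor₃)
  obtain ⟨ψ, hψ⟩ := Triangle.coyoneda_exact₃ T hT ((singleFunctor X.Modules k).map (π ≫ π₀) ≫ e.inv)
    (by rw [Functor.map_comp, Category.assoc, Category.assoc]; exact h0)
  refine ⟨V, ψ, hV, ?_⟩
  have h1 : Epi (H.map ((singleFunctor X.Modules k).map (π ≫ π₀))) := by
    have : Epi (π ≫ π₀) := epi_comp _ _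
    show Epi (((singleFunctor X.Modules k) ⋙ H).map (π ≫ π₀))
    exact (MorphismProperty.epimorphisms X.Modules).arrow_mk_iso_iff
      (((Functor.mapArrowFunctor _ _).mapIso (singleFunctorCompHomologyFunctorIso X.Modules k)).app
        (Arrow.mk (π ≫ π₀))) |>.2 this
  have h2 : Epi (H.map ψ ≫ H.map T.mor₂) := by
    rw [← Functor.map_comp, ← hψ, Functor.map_comp]
    exact @epi_comp _ _ _ _ _ _ h1 _ _
  have := @epi_comp _ _ _ _ _ _ h2 (inv (H.map T.mor₂)) inferInstance
  simpa using this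

/-- Maps from a single module into a complex starting in that degree are maps of complexes. -/
theorem exists_chain_map (P : CochainComplex X.Modules ℤ) (k : ℤ) (hP : ∀ i, i < k → IsZero (P.X i))
    (V : X.Modules) (s : Q.obj ((HomologicalComplex.single X.Modules (ComplexShape.up ℤ) k).obj V) ⟶ Q.obj P) :
    ∃ s₀, Q.map s₀ = s := by
  let S := HomologicalComplex.single X.Modules (ComplexShape.up ℤ) k
  let ι : S.obj (P.cycles k) ⟶ P :=
    HomologicalComplex.mkHomFromSingle (𝟙 (P.cycles k) ≫ P.iCycles k) (fun j _ => by simp)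
  have : IsIso (P.homologyπ k) := P.isIso_homologyπ (k - 1) k (by simp) ((hP _ (by omega)).eq_of_src _ _)
  have hι : IsIso (HomologicalComplex.homologyMap ι k) := by
    rw [CohModel.homologyMap_fromSingle P k (𝟙 _) ι rfl]
    infer_instance
  let T := Q.mapTriangle.obj (CochainComplex.mappingCone.triangle ι)
  have hT : T ∈ distinguishedTriangles := mappingCone_triangle_distinguished ι
  have hk : IsIso ((homologyFunctor X.Modules k).map T.mor₁) :=
    (NatIso.isIso_map_iff (homologyFunctorFactors X.Modules k) ι).2 hι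
  have hsge : T.obj₁.IsGE k := TStructure.t.isGE_of_iso (QCohAcy.singleQIso k (P.cycles k)) k
  have hsle : T.obj₁.IsLE k := TStructure.t.isLE_of_iso (QCohAcy.singleQIso k (P.cycles k)) k
  have hge : T.obj₃.IsGE (k + 1) := (isGE_iff _ _).2 fun i hi => by
    refine (HomologySequence.exact₃ T hT i (i + 1) rfl).isZero_X₂ ?_ ?_
    · rcases eq_or_ne i k with rfl | h
      · have := (HomologySequence.exact₂ T hT i)
        rw [← cancel_epi ((homologyFunctor X.Modules i).map T.mor₁), comp_zero, ← Functor.map_comp,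
          comp_distTriang_mor_zero₁₂ T hT, Functor.map_zero]
      · exact ((PCohD.isZero_homology_Q P i).mpr
          (ShortComplex.isZero_homology_of_isZero_X₂ _ (hP i (by omega)))).eq_of_src _ _
    · rcases eq_or_ne (i + 1) k with h | h
      · subst h
        have := HomologySequence.exact₁ T hT i (i + 1) rfl
        rw [← cancel_mono ((homologyFunctor X.Modules (i + 1)).map T.mor₁), zero_comp]
        exact HomologySequence.δ_comp T hT i (i + 1) rfl
      · rcases lt_or_gt_of_ne h with h' | h'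
        · exact (isZero_of_isGE T.obj₁ k (i + 1) h').eq_of_tgt _ _
        · exact (isZero_of_isLE T.obj₁ k (i + 1) h').eq_of_tgt _ _
  have hle : (Q.obj (S.obj V)).IsLE k := TStructure.t.isLE_of_iso (QCohAcy.singleQIso k V) k
  obtain ⟨y, hy⟩ := Triangle.coyoneda_exact₂ T hT s
    (TStructure.t.zero (s ≫ T.mor₂) k (k + 1) (by omega))
  obtain ⟨φ, hφ⟩ := (singleFunctor X.Modules k).map_surjective
    ((QCohAcy.singleQIso k V).hom ≫ y ≫ (QCohAcy.singleQIso k (P.cycles k)).inv)
  refine ⟨S.map φ ≫ ι, ?_⟩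
  have hn : (singleFunctor X.Modules k).map φ ≫ (QCohAcy.singleQIso k (P.cycles k)).hom =
      (QCohAcy.singleQIso k V).hom ≫ Q.map (S.map φ) :=
    ((SingleFunctors.evaluation _ _ k).mapIso (singleFunctorsPostcompQIso X.Modules)).hom.naturality φ
  have hy' : Q.map (S.map φ) = y := by
    rw [← cancel_epi (QCohAcy.singleQIso k V).hom, ← hn, hφ]
    simp only [Category.assoc, Iso.inv_hom_id]
    exact congrArg _ (Category.comp_id y)
  rw [hy, Functor.map_comp, hy']
  rfl

/-- One step: attach a locally free module to a strictly perfect approximation. -/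
theorem step (P : CochainComplex X.Modules ℤ) (k b : ℤ) (hkb : k ≤ b + 1)
    (hP : DCoh.VanishesOutside P k b) (hPf : ∀ i, FlatMod.IsFinLocFree (P.X i))
    {C L : DCoh.D X} {δ : C ⟶ Q.obj P} {g : Q.obj P ⟶ L} {h : L ⟶ C⟦(1 : ℤ)⟧}
    (hT : Triangle.mk δ g h ∈ distinguishedTriangles) [C.IsLE k] {V : X.Modules}
    (hV : FlatMod.IsFinLocFree V) (ψ : sq k V ⟶ C) (hψ : Epi ((homologyFunctor X.Modules k).map ψ)) :
    ∃ (P' : CochainComplex X.Modules ℤ) (C' : DCoh.D X) (δ' : C' ⟶ Q.obj P') (g' : Q.obj P' ⟶ L)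
      (h' : L ⟶ C'⟦(1 : ℤ)⟧), Triangle.mk δ' g' h' ∈ distinguishedTriangles ∧
      DCoh.VanishesOutside P' (k - 1) b ∧ (∀ i, FlatMod.IsFinLocFree (P'.X i)) ∧ C'.IsLE (k - 1) ∧
      (IsIso ψ → IsZero C') := by
  let S : CochainComplex X.Modules ℤ := (HomologicalComplex.single X.Modules (ComplexShape.up ℤ) k).obj V
  let u₁₂ : Q.obj S ⟶ C := (QCohAcy.singleQIso k V).inv ≫ ψ
  obtain ⟨s₀, hs₀⟩ := exists_chain_map P k (fun i hi => hP i (Or.inl hi)) V (u₁₂ ≫ δ)
  obtain ⟨C', v₁₂, w₁₂, h₁₂⟩ := distinguished_cocone_triangle u₁₂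
  let T₁₃ := Q.mapTriangle.obj (CochainComplex.mappingCone.triangle s₀)
  have h₁₃ : T₁₃ ∈ distinguishedTriangles := mappingCone_triangle_distinguished s₀
  have h₁₃' : Triangle.mk (u₁₂ ≫ δ) T₁₃.mor₂ T₁₃.mor₃ ∈ distinguishedTriangles := by
    refine isomorphic_distinguished _ h₁₃ _ (Triangle.isoMk _ _ (Iso.refl _) (Iso.refl _) (Iso.refl _) ?_ ?_ ?_)
    · show (u₁₂ ≫ δ) ≫ 𝟙 _ = 𝟙 _ ≫ Q.map s₀
      rw [hs₀]; simp
    · simp
    · simp
  let O := Triangulated.someOctahedron rfl h₁₂ hT h₁₃'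
  have hSvan : ∀ i, i ≠ k → IsZero (S.X i) := fun i hi =>
    HomologicalComplex.isZero_single_obj_X (ComplexShape.up ℤ) k V i hi
  have hSp : DCoh.IsStrictlyPerfect S :=
    ⟨⟨k, k, fun i hi => hSvan i (by omega)⟩, PerfModel.isFinLocFree_single hV k⟩
  refine ⟨CochainComplex.mappingCone s₀, C', O.triangle.mor₁, O.triangle.mor₂, O.triangle.mor₃, O.mem,
    fun i hi => (CochainComplex.mappingCone.isZero_X_iff s₀ i).mpr
      ⟨hSvan _ (by omega), hP i (by omega)⟩,
    (PerfTri.Cone.isStrictlyPerfect_mappingCone s₀ hSp ⟨⟨k, b, hP⟩, hPf⟩).2, ?_, ?_⟩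
  · have hle : (Q.obj S).IsLE k := TStructure.t.isLE_of_iso (QCohAcy.singleQIso k V) k
    let T₁₂ := Triangle.mk u₁₂ v₁₂ w₁₂
    refine (isLE_iff C' (k - 1)).2 fun i hi => ?_
    refine (HomologySequence.exact₃ T₁₂ h₁₂ i (i + 1) rfl).isZero_X₂ ?_
      ((isZero_of_isLE (Q.obj S) k (i + 1) (by omega)).eq_of_tgt _ _)
    rcases eq_or_ne i k with rfl | h'
    · have : Epi ((homologyFunctor X.Modules i).map u₁₂) := by
        rw [Functor.map_comp]; exact epi_comp _ _
      rw [← cancel_epi ((homologyFunctor X.Modules i).map u₁₂), comp_zero, ← Functor.map_comp]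
      exact (congrArg _ (comp_distTriang_mor_zero₁₂ T₁₂ h₁₂)).trans (Functor.map_zero _ _ _)
    · exact (isZero_of_isLE C k i (by omega)).eq_of_src _ _
  · intro hiso
    exact Triangle.isZero₃_of_isIso₁ (Triangle.mk u₁₂ v₁₂ w₁₂) h₁₂ (inferInstanceAs (IsIso u₁₂))

theorem flatAmp_mono {K : DCoh.D X} {a b a' b' : ℤ} (ha : a' ≤ a) (hb : b ≤ b')
    (h : DCoh.HasFlatAmplitudeIn a b K) : DCoh.HasFlatAmplitudeIn a' b' K := by
  obtain ⟨G, hG, hf, e⟩ := h
  exact ⟨G, fun i hi => hG i (by omega), hf, e⟩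

/-- A perfect object with the resolution property has a strictly perfect model. -/
theorem exists_strictlyPerfect [CompactSpace X] [QuasiSeparatedSpace X]
    (hX : PerfAux.HasResolutionProperty X) (L : DCoh.D X) (hL : DCoh.IsPerfect L) :
    ∃ E : CochainComplex X.Modules ℤ, DCoh.IsStrictlyPerfect E ∧ Nonempty (DCoh.toD X E ≅ L) := by
  obtain ⟨K, ⟨eK⟩⟩ : ∃ K, Nonempty (Q.obj K ≅ L) := ⟨_, ⟨Q.objObjPreimageIso L⟩⟩
  obtain ⟨p, q, G, hG, hGf, ⟨eG⟩⟩ := FMBound.Perfect.exists_flatAmp hL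
  have hpc : ∀ m, DCoh.IsPseudoCoherentD m L := fun m => PCohD.pc_of_perfect hL m
  have hLq : DCoh.IsQCohD L := FlatProper.isQCohD_of_pc hpc
  have hHz : ∀ i, (i < p ∨ q < i) → IsZero (DCoh.HD L i) := fun i hi =>
    IsZero.of_iso ((PCohD.isZero_homology_Q G i).mpr
        (ShortComplex.isZero_homology_of_isZero_X₂ _ (hG i hi)))
      ((homologyFunctor X.Modules i).mapIso eG.symm)
  have : L.IsGE p := (isGE_iff L p).2 fun i hi => hHz i (Or.inl hi)
  obtain ⟨b, hb, hqb⟩ : ∃ b : ℤ, p ≤ b ∧ q ≤ b := ⟨max p q, le_max_left _ _, le_max_right _ _⟩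
  have hLb : L.IsLE b := (isLE_iff L b).2 fun i hi => hHz i (Or.inr (by omega))
  have key : ∀ n : ℕ, p + n ≤ b + 1 → ∀ (P : CochainComplex X.Modules ℤ) (C : DCoh.D X) (δ : C ⟶ Q.obj P)
      (g : Q.obj P ⟶ L) (h : L ⟶ C⟦(1 : ℤ)⟧), Triangle.mk δ g h ∈ distinguishedTriangles →
      DCoh.VanishesOutside P (p + n) b → (∀ i, FlatMod.IsFinLocFree (P.X i)) → C.IsLE (p + n) →
      ∃ E : CochainComplex X.Modules ℤ, DCoh.IsStrictlyPerfect E ∧ Nonempty (Q.obj E ≅ L) := by
    intro n
    induction n with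
    | zero =>
      intro hn P C δ g h hT hP hPf hC
      simp only [Nat.cast_zero, add_zero] at hn hP hC
      let T := (Triangle.mk δ g h).rotate
      have hT' : T ∈ distinguishedTriangles := rot_of_distTriang _ hT
      have hPp : DCoh.HasFlatAmplitudeIn (p - 1 + 1) (b + 1) T.obj₁ :=
        ⟨P, fun i hi => hP i (by omega), fun i => PCohD.PerfTor.isFlat_of_isFinLocFree (hPf i), ⟨Iso.refl _⟩⟩
      have hfl₁ : DCoh.HasFlatAmplitudeIn (p - 1) b T.obj₃ :=
        PerfModel.flatAmp₃ T hT' (by omega) hPp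
          (flatAmp_mono (by omega) hqb ⟨G, hG, hGf, ⟨eG⟩⟩)
      have hpc₃ : ∀ m, DCoh.IsPseudoCoherentD m T.obj₃ := fun m =>
        PCohD.pc₃ (m := m) T hT' (PCohD.pc_of_isAp ⟨P, (Iso.refl (Q.obj P)).hom, ⟨⟨p, b, hP⟩, hPf⟩,
          @KFlat.TildePC.appr_of_isIso _ _ _ _ _ _ _ _ (Iso.isIso_hom (Iso.refl _))⟩) (hpc m)
      have hle₃ : T.obj₃.IsLE (p - 1) := TStructure.t.isLE_shift C p 1 (p - 1) (by omega)
      have hfl₂ : DCoh.HasFlatAmplitudeIn (p - 1) (p - 1) T.obj₃ :=
        PerfModel.flatAmp_shrink (b := b) le_rfl (by omega) hfl₁ (hpc₃ _)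
          (fun i hi => isZero_of_isLE T.obj₃ (p - 1) i hi)
      obtain ⟨J, ⟨eJ⟩⟩ : ∃ J, Nonempty (Q.obj J ≅ T.obj₃) := ⟨_, ⟨Q.objObjPreimageIso _⟩⟩
      have hge₃ : T.obj₃.IsGE (p - 1) := by
        obtain ⟨G', hG', -, ⟨e'⟩⟩ := hfl₂
        exact (isGE_iff _ _).2 fun i hi => IsZero.of_iso ((PCohD.isZero_homology_Q G' i).mpr
            (ShortComplex.isZero_homology_of_isZero_X₂ _ (hG' i (Or.inl hi))))
          ((homologyFunctor X.Modules i).mapIso e'.symm)
      obtain ⟨A, ⟨eA⟩⟩ := exists_iso_singleFunctor_obj_of_isGE_of_isLE T.obj₃ (p - 1)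
      have hA : FlatMod.IsFinLocFree A := by
        have hJ : DCoh.HasFlatAmplitudeIn (p - 1) (p - 1) (Q.obj J) := by
          obtain ⟨G', hG', hGf', ⟨e'⟩⟩ := hfl₂
          exact ⟨G', hG', hGf', ⟨e' ≪≫ eJ.symm⟩⟩
        exact LocFree.isFinLocFree_of_iso
          (((homologyFunctorFactors X.Modules (p - 1)).app J).symm ≪≫
            (homologyFunctor X.Modules (p - 1)).mapIso (eJ ≪≫ eA) ≪≫
            (singleFunctorCompHomologyFunctorIso X.Modules (p - 1)).app A)
          (PerfModel.isFinLocFree_homology hJ (PCohD.pc_of_iso eJ.symm (hpc₃ _)))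
      let eC : sq p A ≅ C :=
        (shiftFunctor (DCoh.D X) (1 : ℤ)).preimageIso
          (((singleFunctors X.Modules).shiftIso 1 (p - 1) p (by omega)).app A ≪≫ eA.symm)
      obtain ⟨P', C', δ', g', h', hT'', hP', hPf', -, hz⟩ :=
        step P p b hn hP hPf hT hA eC.hom inferInstance
      have : IsIso g' := (Triangle.isZero₁_iff_isIso₂ (Triangle.mk δ' g' h') hT'').1 (hz inferInstance)
      exact ⟨P', ⟨⟨p - 1, b, hP'⟩, hPf'⟩, ⟨asIso g'⟩⟩
    | succ n ih =>
      intro hn P C δ g h hT hP hPf hC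
      push_cast at hn hP hC
      let T := Triangle.mk δ g h
      have hPq : DCoh.IsQCohD (Q.obj P : DCoh.D X) :=
        QCohModel.isQCohD_Q_of_terms P fun i => PerfTri.Betti.isQuasicoherent_of_isFinLocFree (hPf i)
      have hCq : DCoh.IsQCohD C := PCohD.isQCohD_obj₃ T.invRotate.invRotate
        (inv_rot_of_distTriang _ (inv_rot_of_distTriang _ hT)) (isQCohD_shift hPq _) (isQCohD_shift hLq _)
      have hPpc : ∀ m, DCoh.IsPseudoCoherentD m (Q.obj P : DCoh.D X) := fun m =>
        PCohD.pc_of_isAp ⟨P, (Iso.refl (Q.obj P)).hom, ⟨⟨_, _, hP⟩, hPf⟩,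
          @KFlat.TildePC.appr_of_isIso _ _ _ _ _ _ _ _ (Iso.isIso_hom (Iso.refl _))⟩
      have hCpc : DCoh.IsPseudoCoherentD (p + (n + 1)) C := by
        rw [← add_assoc]
        exact PCohD.pc₁ (m := p + n) T hT (hPpc _) (hpc _)
      have hft : CohB1.IsFT (DCoh.HD C (p + (n + 1))) :=
        PCohD.FTFP.isFT_homology hCpc fun i hi => isZero_of_isLE C (p + (n + 1)) i hi
      have hCge : C.IsGE p := (isGE_iff C p).2 fun i hi =>
        (HomologySequence.exact₁ T hT (i - 1) i (by omega)).isZero_X₂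
          ((isZero_of_isGE L p (i - 1) (by omega)).eq_of_src _ _)
          (((PCohD.isZero_homology_Q P i).mpr
            (ShortComplex.isZero_homology_of_isZero_X₂ _ (hP i (Or.inl (by omega))))).eq_of_tgt _ _)
      obtain ⟨V, ψ, hV, hψ⟩ := exists_epi_top hX C hCq p (p + (n + 1)) hft
      obtain ⟨P', C', δ', g', h', hT', hP', hPf', hC', -⟩ := step P _ b hn hP hPf hT hV ψ hψ
      rw [show p + ((n : ℤ) + 1) - 1 = p + n by omega] at hP' hC'
      exact ih (by omega) P' C' δ' g' h' hT' hP' hPf' hC'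
  obtain ⟨n, hn⟩ : ∃ n : ℕ, p + n = b + 1 := ⟨(b + 1 - p).toNat, by omega⟩
  obtain ⟨C, f, h, hT⟩ := distinguished_cocone_triangle₁ (0 : Q.obj (0 : CochainComplex X.Modules ℤ) ⟶ L)
  refine key n hn.le 0 C f 0 h hT
    (fun i _ => (HomologicalComplex.eval X.Modules (ComplexShape.up ℤ) i).map_isZero (isZero_zero _))
    PCohD.isStrictlyPerfect_zero.2 ?_
  rw [hn]
  exact (isLE_iff C (b + 1)).2 fun i hi =>
    (HomologySequence.exact₁ (Triangle.mk f 0 h) hT (i - 1) i (by omega)).isZero_X₂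
      ((isZero_of_isLE L b (i - 1) (by omega)).eq_of_src _ _)
      (((homologyFunctor X.Modules i).map_isZero (Q.map_isZero (isZero_zero _))).eq_of_tgt _ _)

end Groth.Agent.PerfRP
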